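import Mathlib
import Cfsg.Agent.Lib.Helper7.SL2

set_option autoImplicit false
set_option linter.unusedSectionVars false
set_option linter.unusedVariables false

/-! Tools for the insoluble sharply doubly transitive groups. -/

namespace Cfsg.Agent.Lib.Helper38.Zass

open Matrix

/-- free actions: the order of the group divides the number of points -/
theorem card_dvd_of_free {M X : Type*} [Group M] [MulAction M X]
    (h : ∀ x : X, MulAction.stabilizer M x = ⊥) : Nat.card M ∣ Nat.card X := by
  rw [Nat.card_congr (MulAction.selfEquivOrbitsQuotientProd h), Nat.card_prod]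
  exact dvd_mul_left _ _

section half

variable {F V : Type*} [Field F] [AddCommGroup V] [Module F V]

/-- the fixed space of `a I + b J` -/
def halfSpace (a b : F) (I J : Module.End F V) : Submodule F V :=
  LinearMap.ker (a • I + b • J - 1)

theorem mem_halfSpace {a b : F} {I J : Module.End F V} {v : V} :
    v ∈ halfSpace a b I J ↔ a • I v + b • J v = v := by
  rw [halfSpace, LinearMap.mem_ker]
  simp [sub_eq_zero]

theorem halfSpace_invariant {a b : F} {I J : Module.End F V} (f : Module.End F V)
    (hfI : f * I = I * f) (hfJ : f * J = J * f) {v : V} (hv : v ∈ halfSpace a b I J) :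
    f v ∈ halfSpace a b I J := by
  rw [mem_halfSpace] at hv ⊢
  have h1 : I (f v) = f (I v) := by
    have := congrArg (fun g : Module.End F V => g v) hfI
    simpa using this.symm
  have h2 : J (f v) = f (J v) := by
    have := congrArg (fun g : Module.End F V => g v) hfJ
    simpa using this.symm
  rw [h1, h2, ← map_smul f, ← map_smul f, ← map_add f, hv]

theorem card_eq_sq_halfSpace (h2 : (2 : F) ≠ 0) {a b : F} (hab : a ^ 2 + b ^ 2 = -1)
    {I J : Module.End F V} (hI : I * I = -1) (hJ : J * J = -1) (hIJ : J * I = -(I * J)) :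
    Nat.card V = Nat.card (halfSpace a b I J) ^ 2 := by
  set T : Module.End F V := a • I + b • J with hT
  set k : Module.End F V := I * J with hk
  have hTT : T * T = 1 := by
    have : T * T = (a * a) • (I * I) + (a * b) • (I * J + J * I) + (b * b) • (J * J) := by
      rw [hT]
      simp only [mul_add, add_mul, smul_mul_smul_comm, smul_add]
      rw [mul_comm b a]
      abel
    rw [this, hI, hJ, hIJ, add_neg_cancel, smul_zero, add_zero, smul_neg, smul_neg, ← neg_add,
      ← add_smul]
    have e : a * a + b * b = -1 := by rw [← hab]; ring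
    rw [e, neg_smul, one_smul, neg_neg]
  have hkT : k * T = -(T * k) := by
    have e1 : I * J * I = J := by
      rw [mul_assoc, hIJ, mul_neg, ← mul_assoc, hI, neg_mul, one_mul, neg_neg]
    have e2 : I * J * J = -I := by rw [mul_assoc, hJ, mul_neg, mul_one]
    have e3 : I * (I * J) = -J := by rw [← mul_assoc, hI, neg_mul, one_mul]
    have e4 : J * (I * J) = I := by
      rw [← mul_assoc, hIJ, neg_mul, mul_assoc, hJ, mul_neg, mul_one, neg_neg]
    rw [hk, hT, mul_add, add_mul, mul_smul_comm, mul_smul_comm, smul_mul_assoc, smul_mul_assoc,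
      e1, e2, e3, e4, smul_neg, smul_neg]
    abel
  have hkk : k * k = -1 := by
    have e5 : J * k = I := by
      rw [hk, ← mul_assoc, hIJ, neg_mul, hk, mul_assoc, hJ, mul_neg, mul_one, neg_neg]
    calc k * k = I * (J * k) := by
          nth_rewrite 1 [hk]
          rw [mul_assoc]
      _ = -1 := by rw [e5, hI]
  have hTTv : ∀ v, T (T v) = v := fun v => by
    have := congrArg (fun g : Module.End F V => g v) hTT
    simpa using this
  have hkTv : ∀ v, k (T v) = -(T (k v)) := fun v => by
    have := congrArg (fun g : Module.End F V => g v) hkT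
    simpa using this
  have hkkv : ∀ v, k (k v) = -v := fun v => by
    have := congrArg (fun g : Module.End F V => g v) hkk
    simpa using this
  have hmem : ∀ v, v ∈ halfSpace a b I J ↔ T v = v := fun v => by
    rw [mem_halfSpace, hT]; simp
  have hzero : ∀ d : V, d = -d → d = 0 := by
    intro d hd
    have h3 : (2 : F) • d = 0 := by
      rw [two_smul]
      nth_rewrite 2 [hd]
      exact add_neg_cancel d
    exact (smul_eq_zero.mp h3).resolve_left h2
  let Φ : halfSpace a b I J × halfSpace a b I J → V := fun x => x.1.1 + k x.2.1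
  have hΦ : Function.Bijective Φ := by
    constructor
    · rintro ⟨⟨x, hx⟩, ⟨y, hy⟩⟩ ⟨⟨x', hx'⟩, ⟨y', hy'⟩⟩ h
      have h' : x + k y = x' + k y' := h
      rw [hmem] at hx hy hx' hy'
      have hd : x - x' = k (y' - y) := by
        rw [map_sub]
        have : x - x' = (x + k y) - x' - k y := by abel
        rw [this, h']; abel
      have hTd : T (x - x') = x - x' := by rw [map_sub, hx, hx']
      have hTe : T (k (y' - y)) = -(k (y' - y)) := by
        have := hkTv (y' - y)
        rw [map_sub T, hy, hy'] at this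
        exact (neg_eq_iff_eq_neg.mpr this).symm ▸ rfl
      have hd0 : x - x' = 0 := by
        apply hzero
        calc x - x' = T (x - x') := hTd.symm
          _ = T (k (y' - y)) := by rw [hd]
          _ = -(k (y' - y)) := hTe
          _ = -(x - x') := by rw [hd]
      have he0 : y' - y = 0 := by
        have h5 : k (y' - y) = 0 := by rw [← hd, hd0]
        have := hkkv (y' - y)
        rw [h5, map_zero] at this
        exact neg_eq_zero.mp this.symm
      have e1 : x = x' := sub_eq_zero.mp hd0
      have e2 : y = y' := (sub_eq_zero.mp he0).symm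
      subst e1; subst e2; rfl
    · intro v
      set x : V := (2 : F)⁻¹ • (v + T v) with hx
      set c : V := (2 : F)⁻¹ • (v - T v) with hc
      have hxT : T x = x := by rw [hx, map_smul, map_add, hTTv, add_comm]
      have hcT : T c = -c := by
        rw [hc, map_smul, map_sub, hTTv, ← smul_neg, neg_sub]
      have hyT : T (-(k c)) = -(k c) := by
        have := hkTv c
        rw [hcT, map_neg] at this
        rw [map_neg]
        exact congrArg Neg.neg (neg_injective this).symm
      refine ⟨(⟨x, (hmem x).mpr hxT⟩, ⟨-(k c), (hmem _).mpr hyT⟩), ?_⟩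
      show x + k (-(k c)) = v
      rw [map_neg, hkkv, neg_neg, hx, hc, ← smul_add]
      have : v + T v + (v - T v) = (2 : F) • v := by rw [two_smul]; abel
      rw [this, smul_smul, inv_mul_cancel₀ h2, one_smul]
  rw [← Nat.card_congr (Equiv.ofBijective Φ hΦ), Nat.card_prod, pow_two]

end half

section sl25

abbrev S5 := SpecialLinearGroup (Fin 2) (ZMod 5)

def iM : S5 := ⟨!![2, 0; 0, 3], by decide⟩
def jM : S5 := ⟨!![0, 1; 4, 0], by decide⟩
def cM : S5 := ⟨!![4, 0; 0, 4], by decide⟩

theorem iM_sq : iM * iM = cM := by decide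
theorem jM_sq : jM * jM = cM := by decide
theorem jM_iM : jM * iM = cM * (iM * jM) := by decide
theorem cM_ne : cM ≠ 1 := by decide
theorem cM_sq : cM * cM = 1 := by decide

theorem card_S5 : Nat.card S5 = 120 := by
  have : Fact (Nat.Prime 5) := ⟨by norm_num⟩
  have h := Cfsg.Agent.Lib.Helper7.card_SL2 (F := ZMod 5)
  rw [ZMod.card] at h
  exact h

end sl25

/-- the arithmetic of the insoluble case -/
theorem arith689 {Q ι m : ℕ} (hι : ι = 1 ∨ ι = 2) (hm : m ∣ Q - 1) (hQ : 2 ≤ Q)
    (h : Q ^ 2 - 1 = ι * (120 * m)) (hc : m.Coprime 30) :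
    (Q = 11 ∧ ι = 1 ∧ m = 1) ∨ (Q = 29 ∧ ι = 1 ∧ m = 7) ∨ (Q = 59 ∧ ι = 1 ∧ m = 29) ∨ Q = 119 := by
  obtain ⟨t, ht⟩ := hm
  have hm0 : 0 < m := by
    rcases Nat.eq_zero_or_pos m with h0 | h0
    · rw [h0] at ht; omega
    · exact h0
  have h2 : ¬ 2 ∣ m := fun hd => by
    have := Nat.Coprime.eq_one_of_dvd (Nat.Coprime.coprime_dvd_left hd hc) (by norm_num : 2 ∣ 30)
    omega
  have h3 : ¬ 3 ∣ m := fun hd => by
    have := Nat.Coprime.eq_one_of_dvd (Nat.Coprime.coprime_dvd_left hd hc) (by norm_num : 3 ∣ 30)
    omega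
  have h5 : ¬ 5 ∣ m := fun hd => by
    have := Nat.Coprime.eq_one_of_dvd (Nat.Coprime.coprime_dvd_left hd hc) (by norm_num : 5 ∣ 30)
    omega
  obtain ⟨q, rfl⟩ : ∃ q, Q = q + 1 := ⟨Q - 1, by omega⟩
  have hq : q = m * t := by simpa using ht
  have e1 : (q + 1) ^ 2 - 1 = q * (q + 2) := by
    have : (q + 1) ^ 2 = q * (q + 2) + 1 := by ring
    omega
  rw [e1, hq] at h
  have e2 : t * (m * t + 2) = ι * 120 := by
    apply Nat.eq_of_mul_eq_mul_left hm0
    calc m * (t * (m * t + 2)) = m * t * (m * t + 2) := by ring
      _ = ι * (120 * m) := h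
      _ = m * (ι * 120) := by ring
  have ht240 : t ≤ 240 := by
    have : t * 1 ≤ t * (m * t + 2) := Nat.mul_le_mul_left _ (by omega)
    rcases hι with rfl | rfl <;> omega
  have ht0 : 0 < t := by
    rcases Nat.eq_zero_or_pos t with h0 | h0
    · rw [h0] at e2; rcases hι with rfl | rfl <;> omega
    · exact h0
  rw [hq]
  rcases hι with rfl | rfl
  · interval_cases t <;> omega
  · interval_cases t <;> omega

end Cfsg.Agent.Lib.Helper38.Zass
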