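import Mathlib

set_option autoImplicit false
set_option linter.unusedSectionVars false

/-! Linear algebra of a free "quadratic" action: `ρ g + ρ g⁻¹` scalar for all `g`. -/

namespace Cfsg.Agent.Lib.Helper38.Zass

variable {K W G : Type*} [Field K] [AddCommGroup W] [Module K W] [Nontrivial W] [Group G]
  (ρ : G →* Module.End K W)

theorem rho_mul_inv (g : G) : ρ g * ρ g⁻¹ = 1 := by rw [← map_mul, mul_inv_cancel, map_one]

theorem rho_inv_mul (g : G) : ρ g⁻¹ * ρ g = 1 := by rw [← map_mul, inv_mul_cancel, map_one]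

section free

variable (hfree : ∀ g : G, g ≠ 1 → ∀ v : W, ρ g v = v → v = 0)

include hfree

theorem eq_one_of_fix {g : G} {v : W} (hv : v ≠ 0) (h : ρ g v = v) : g = 1 := by
  by_contra hg
  exact hv (hfree g hg v h)

theorem eq_of_apply_eq {g h : G} {v : W} (hv : v ≠ 0) (e : ρ g v = ρ h v) : g = h := by
  have h1 : ρ (h⁻¹ * g) v = v := by
    rw [map_mul, Module.End.mul_apply, e, ← Module.End.mul_apply, rho_inv_mul, Module.End.one_apply]
  have := eq_one_of_fix ρ hfree hv h1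
  calc g = h * (h⁻¹ * g) := by group
    _ = h := by rw [this, mul_one]

theorem rho_injective : Function.Injective ρ := by
  intro g h e
  obtain ⟨v, hv⟩ := exists_ne (0 : W)
  exact eq_of_apply_eq ρ hfree hv (by rw [e])

theorem sq_eq_one_cases {g : G} (hg : g * g = 1) : g = 1 ∨ ρ g = -1 := by
  by_cases h1 : g = 1
  · left; exact h1
  · right
    ext v
    have h2 : ρ g (ρ g v + v) = ρ g v + v := by
      rw [map_add, ← Module.End.mul_apply, ← map_mul, hg, map_one, Module.End.one_apply, add_comm]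
    have h3 := hfree g h1 _ h2
    simp only [LinearMap.neg_apply, Module.End.one_apply]
    exact eq_neg_of_add_eq_zero_left h3

variable (τ : G → K) (hτ : ∀ g : G, ρ g + ρ g⁻¹ = τ g • 1)

include hτ

/-- a conjugate commuting with `g` is `g` or `g⁻¹` -/
theorem conj_cases (g h : G) (hc : Commute (h * g * h⁻¹) g) :
    h * g * h⁻¹ = g ∨ h * g * h⁻¹ = g⁻¹ := by
  set k := h * g * h⁻¹ with hk
  have e1 : ρ k + ρ k⁻¹ = ρ g + ρ g⁻¹ := by
    have : ρ k + ρ k⁻¹ = ρ h * (ρ g + ρ g⁻¹) * ρ h⁻¹ := by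
      rw [mul_add, add_mul, ← map_mul, ← map_mul, ← map_mul, ← map_mul, hk]
      congr 2
      group
    rw [this, hτ g, mul_smul_comm, smul_mul_assoc, mul_one, rho_mul_inv]
  have hc' : ρ k * ρ g = ρ g * ρ k := by rw [← map_mul, ← map_mul, hc.eq]
  have e2 : (ρ k - ρ g) * (ρ k - ρ g⁻¹) = 0 := by
    have : (ρ k - ρ g) * (ρ k - ρ g⁻¹) = ρ k * ρ k - ρ k * (ρ g + ρ g⁻¹) + ρ g * ρ g⁻¹ := by
      rw [sub_mul, mul_sub, mul_sub, mul_add, ← hc']
      abel
    rw [this, ← e1, mul_add, rho_mul_inv, rho_mul_inv]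
    abel
  obtain ⟨v, hv⟩ := exists_ne (0 : W)
  by_cases hw : (ρ k - ρ g⁻¹) v = 0
  · right
    apply eq_of_apply_eq ρ hfree hv
    rw [LinearMap.sub_apply] at hw
    exact sub_eq_zero.mp hw
  · left
    apply eq_of_apply_eq ρ hfree hw
    have := congrArg (fun f : Module.End K W => f v) e2
    simp only [Module.End.mul_apply, LinearMap.zero_apply] at this
    rw [LinearMap.sub_apply] at this
    exact sub_eq_zero.mp this

/-- `s_g ^ 2` is the scalar `τ_g ^ 2 - 4` -/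
theorem s_sq (g : G) : (ρ g - ρ g⁻¹) * (ρ g - ρ g⁻¹) = (τ g ^ 2 - 4) • 1 := by
  have h1 : (ρ g + ρ g⁻¹) * (ρ g + ρ g⁻¹) = (τ g ^ 2) • 1 := by
    rw [hτ g, smul_mul_smul_comm, mul_one, pow_two]
  have h2 : (ρ g - ρ g⁻¹) * (ρ g - ρ g⁻¹) = (ρ g + ρ g⁻¹) * (ρ g + ρ g⁻¹) - (4 : K) • 1 := by
    have e4 : (4 : K) • (1 : Module.End K W) = 1 + 1 + 1 + 1 := by
      have : (4 : K) = 1 + 1 + 1 + 1 := by norm_num
      rw [this, add_smul, add_smul, add_smul, one_smul]
    rw [e4, sub_mul, mul_sub, mul_sub, add_mul, mul_add, mul_add, rho_mul_inv, rho_inv_mul]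
    abel
  rw [h2, h1, sub_smul]

theorem disc_ne_zero {g : G} (hg : g * g ≠ 1) : τ g ^ 2 - 4 ≠ 0 := by
  intro hD
  have h1 := s_sq ρ hfree τ hτ g
  rw [hD, zero_smul] at h1
  have hinj : ∀ v : W, (ρ g - ρ g⁻¹) v = 0 → v = 0 := by
    intro v hv
    rw [LinearMap.sub_apply] at hv
    have h2 : ρ g v = ρ g⁻¹ v := sub_eq_zero.mp hv
    apply hfree (g * g) hg v
    rw [map_mul, Module.End.mul_apply, h2, ← Module.End.mul_apply, rho_mul_inv,
      Module.End.one_apply]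
  obtain ⟨v, hv⟩ := exists_ne (0 : W)
  apply hv
  apply hinj
  apply hinj
  have := congrArg (fun f : Module.End K W => f v) h1
  simpa using this

/-- elements commuting with `g` (`g² ≠ 1`) lie in `K + K s_g` -/
theorem mem_span_of_commute (h2 : (2 : K) ≠ 0) {g : G} (hg : g * g ≠ 1) {h : G}
    (hc : Commute h g) : ∃ α β : K, ρ h = α • 1 + β • (ρ g - ρ g⁻¹) := by
  set s := ρ g - ρ g⁻¹ with hs
  set t := ρ h - ρ h⁻¹ with ht
  set D := τ g ^ 2 - 4 with hD
  have hD0 : D ≠ 0 := disc_ne_zero ρ hfree τ hτ hg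
  have hst : s * t = (τ (g * h) - τ (g * h⁻¹)) • 1 := by
    rw [sub_smul, ← hτ, ← hτ, hs, ht, sub_mul, mul_sub, mul_sub, ← map_mul, ← map_mul, ← map_mul,
      ← map_mul]
    have e1 : (g * h)⁻¹ = g⁻¹ * h⁻¹ := by
      rw [mul_inv_rev]; exact (hc.inv_inv).eq
    have e2 : (g * h⁻¹)⁻¹ = g⁻¹ * h := by
      rw [mul_inv_rev, inv_inv]; exact (hc.inv_right).eq
    rw [e1, e2]
    abel
  have hss : s * s = D • 1 := s_sq ρ hfree τ hτ g
  have hDt : D • t = (τ (g * h) - τ (g * h⁻¹)) • s := by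
    calc D • t = (D • (1 : Module.End K W)) * t := by rw [smul_mul_assoc, one_mul]
      _ = s * (s * t) := by rw [← hss, mul_assoc]
      _ = (τ (g * h) - τ (g * h⁻¹)) • s := by rw [hst, mul_smul_comm, mul_one]
  have h2h : (2 : K) • ρ h = τ h • 1 + t := by
    rw [← hτ, ht, two_smul]; abel
  refine ⟨τ h / 2, (τ (g * h) - τ (g * h⁻¹)) / D / 2, ?_⟩
  have ht' : t = ((τ (g * h) - τ (g * h⁻¹)) / D) • s := by
    rw [div_eq_inv_mul, mul_smul, ← hDt, smul_smul, inv_mul_cancel₀ hD0, one_smul]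
  calc ρ h = (2 : K)⁻¹ • ((2 : K) • ρ h) := by rw [smul_smul, inv_mul_cancel₀ h2, one_smul]
    _ = (2 : K)⁻¹ • (τ h • 1 + ((τ (g * h) - τ (g * h⁻¹)) / D) • s) := by rw [h2h, ← ht']
    _ = (τ h / 2) • 1 + ((τ (g * h) - τ (g * h⁻¹)) / D / 2) • s := by
      rw [smul_add, smul_smul, smul_smul]
      congr 2 <;> field_simp

theorem commute_of_commute (h2 : (2 : K) ≠ 0) {g : G} (hg : g * g ≠ 1) {x y : G}
    (hx : Commute x g) (hy : Commute y g) : Commute x y := by
  obtain ⟨α, β, ex⟩ := mem_span_of_commute ρ hfree τ hτ h2 hg hx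
  obtain ⟨α', β', ey⟩ := mem_span_of_commute ρ hfree τ hτ h2 hg hy
  apply rho_injective ρ hfree
  rw [map_mul, map_mul, ex, ey]
  simp only [mul_add, add_mul, smul_mul_smul_comm, mul_one, one_mul]
  rw [mul_comm α α', mul_comm β β', mul_comm α β', mul_comm β α']
  abel

end free

end Cfsg.Agent.Lib.Helper38.Zass
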