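import Mathlib
import Cfsg.Agent.Lib.Helper61.ZassDefs
import Cfsg.Agent.Lib.Helper38.ZassA2
import Cfsg.Agent.Lib.Helper59.UniqueOdd
import Cfsg.Agent.S0016

set_option autoImplicit false
set_option linter.unusedSectionVars false
set_option linter.unusedVariables false

/-! Rung D of the Zassenhaus ladder: elementary consequences of a free representation. -/

namespace Cfsg.Agent.Lib.Helper38.Zass

open Cfsg.Agent.Lib.Helper61.Zass

theorem D1 {H : Type*} [Group H] (h : HasFreeRep H) (s t : H) (hs : orderOf s = 2)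
    (ht : orderOf t = 2) : s = t := by
  obtain ⟨K, _, _, V, _, _, _, _, ρ, hfree⟩ := h
  have hss : s * s = 1 := by rw [← pow_two, ← hs]; exact pow_orderOf_eq_one s
  have htt : t * t = 1 := by rw [← pow_two, ← ht]; exact pow_orderOf_eq_one t
  have hs1 : s ≠ 1 := by intro h; rw [h, orderOf_one] at hs; omega
  have ht1 : t ≠ 1 := by intro h; rw [h, orderOf_one] at ht; omega
  apply rho_injective ρ hfree
  rw [(sq_eq_one_cases ρ hfree hss).resolve_left hs1, (sq_eq_one_cases ρ hfree htt).resolve_left ht1]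

theorem pow_apply_eigen {K V H : Type*} [Field K] [AddCommGroup V] [Module K V] [Group H]
    (ρ : H →* Module.End K V) (g : H) (c : K) (v : V) (h : ρ g v = c • v) (k : ℕ) :
    ρ (g ^ k) v = c ^ k • v := by
  induction k with
  | zero => simp
  | succ k ih =>
    rw [pow_succ, map_mul, Module.End.mul_apply, h, map_smul, ih, smul_smul, pow_succ, mul_comm]

theorem D2 {H : Type*} [Group H] (h : HasFreeRep H) {p : ℕ} [hp : Fact p.Prime] (a b : H)
    (ha : orderOf a = p) (hb : orderOf b = p) (hc : Commute a b) : b ∈ Subgroup.zpowers a := by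
  obtain ⟨K, _, _, V, _, _, _, _, ρ, hfree⟩ := h
  obtain ⟨l, hl⟩ := Module.End.exists_eigenvalue (ρ a)
  set W := Module.End.eigenspace (ρ a) l with hW
  have hWne : W ≠ ⊥ := hl
  have hinv : ∀ x ∈ W, ρ b x ∈ W := by
    intro x hx
    rw [hW, Module.End.mem_eigenspace_iff] at hx ⊢
    rw [← Module.End.mul_apply, ← map_mul, hc.eq, map_mul, Module.End.mul_apply, hx, map_smul]
  let g : Module.End K W := (ρ b).restrict hinv
  have : Nontrivial W := Submodule.nontrivial_iff_ne_bot.mpr hWne
  obtain ⟨m, hm⟩ := Module.End.exists_eigenvalue g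
  obtain ⟨w, hw⟩ := hm.exists_hasEigenvector
  have hw0 : (w : V) ≠ 0 := fun h0 => hw.2 (Subtype.ext h0)
  have hav : ρ a (w : V) = l • (w : V) := Module.End.mem_eigenspace_iff.mp w.2
  have hbv : ρ b (w : V) = m • (w : V) := by
    have := hw.apply_eq_smul
    exact congrArg Subtype.val this
  have hone : ∀ (x : H) (c : K), orderOf x = p → ρ x (w : V) = c • (w : V) → c ^ p = 1 := by
    intro x c hx hxv
    have h1 := pow_apply_eigen ρ x c w hxv p
    rw [← hx, pow_orderOf_eq_one, map_one, Module.End.one_apply, hx] at h1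
    have h2 : (c ^ p - 1) • (w : V) = 0 := by rw [sub_smul, one_smul, ← h1, sub_self]
    exact sub_eq_zero.mp ((smul_eq_zero.mp h2).resolve_right hw0)
  have hlp : l ^ p = 1 := hone a l ha hav
  have hmp : m ^ p = 1 := hone b m hb hbv
  have hl1 : l ≠ 1 := by
    intro h1
    rw [h1, one_smul] at hav
    have := eq_one_of_fix ρ hfree hw0 hav
    rw [this, orderOf_one] at ha
    exact hp.out.one_lt.ne ha
  have hprim : IsPrimitiveRoot l p := by
    have := IsPrimitiveRoot.orderOf l
    rwa [orderOf_eq_prime hlp hl1] at this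
  have : NeZero p := ⟨hp.out.ne_zero⟩
  obtain ⟨i, -, hi⟩ := hprim.eq_pow_of_pow_eq_one hmp
  have : b = a ^ i := by
    apply eq_of_apply_eq ρ hfree hw0
    rw [hbv, pow_apply_eigen ρ a l w hav i, hi]
  rw [this]
  exact Subgroup.pow_mem _ (Subgroup.mem_zpowers a) i

/-- a `p`-group with a free representation is cyclic or generalized quaternion -/
theorem pgroup_structure {P : Type*} [Group P] [Finite P] (h : HasFreeRep P) (p : ℕ)
    [hp : Fact p.Prime] (hP : IsPGroup p P) :
    IsCyclic P ∨ ∃ n : ℕ, Nonempty (P ≃* QuaternionGroup (2 ^ n)) := by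
  rcases subsingleton_or_nontrivial P with hs | hnt
  · left; infer_instance
  obtain ⟨z, hzc, hz⟩ := Cfsg.Agent.Lib.Helper59.exists_central_orderOf_eq hP
  have key : ∀ X : Subgroup P, Nat.card X = p → X = Subgroup.zpowers z := by
    intro X hX
    have hcyc : IsCyclic X := isCyclic_of_prime_card hX
    obtain ⟨x, hx⟩ := IsCyclic.exists_generator (α := X)
    have hxo : orderOf (x : P) = p := by
      rw [Subgroup.orderOf_coe, orderOf_eq_card_of_forall_mem_zpowers hx, hX]
    have hxz : (x : P) ∈ Subgroup.zpowers z :=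
      D2 h z x hz hxo (Subgroup.mem_center_iff.mp hzc x).symm
    have hle : X ≤ Subgroup.zpowers z := by
      intro y hy
      obtain ⟨k, hk⟩ := Subgroup.mem_zpowers_iff.mp (hx ⟨y, hy⟩)
      have h1 : (x : P) ^ k = y := by
        have := congrArg Subtype.val hk
        simpa using this
      rw [← h1]
      exact Subgroup.zpow_mem _ hxz k
    apply Subgroup.eq_of_le_of_card_ge hle
    rw [Nat.card_zpowers, hz, hX]
  rcases Cfsg.Agent.S0016.result p hP (fun X Y hX hY => (key X hX).trans (key Y hY).symm) with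
    h1 | ⟨-, h2⟩
  · left; exact h1
  · right; exact h2

theorem D3 {H : Type*} [Group H] [Finite H] (h : HasFreeRep H) (p : ℕ) [Fact p.Prime]
    (P : Sylow p H) : IsCyclic P ∨ ∃ n : ℕ, Nonempty (P ≃* QuaternionGroup (2 ^ n)) :=
  pgroup_structure (h.subgroup (P : Subgroup H)) p P.isPGroup'

end Cfsg.Agent.Lib.Helper38.Zass
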