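import Mathlib
import Cfsg.Agent.Lib.Helper38.ZassA2
import Cfsg.Agent.Lib.Helper38.Zass689a

set_option autoImplicit false
set_option linter.unusedSectionVars false
set_option linter.unusedVariables false

/-! The insoluble sharply doubly transitive groups, from the structure of insoluble
Frobenius complements. -/

namespace Cfsg.Agent.Lib.Helper38.Zass

open Matrix

theorem card_subtype_ne {X : Type*} [Finite X] (x₀ : X) :
    Nat.card {x : X // x ≠ x₀} = Nat.card X - 1 := by
  classical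
  have := Fintype.ofFinite X
  rw [Nat.card_eq_fintype_card, Nat.card_eq_fintype_card, Fintype.card_subtype_compl,
    Fintype.card_subtype_eq]

set_option maxHeartbeats 1000000 in
theorem main689 {p : ℕ} [Fact p.Prime] {V : Type*} [AddCommGroup V] [Module (ZMod p) V] [Finite V]
    (H : Subgroup (V ≃ₗ[ZMod p] V))
    (hreg : ∀ v w : V, v ≠ 0 → w ≠ 0 → ∃! h : H, (h : V ≃ₗ[ZMod p] V) v = w)
    (core : ∃ G₀ : Subgroup H, G₀.Normal ∧ (G₀.index = 1 ∨ G₀.index = 2) ∧
      ∃ S M : Subgroup H, S ⊔ M = G₀ ∧ S ⊓ M = ⊥ ∧ (∀ s ∈ S, ∀ x ∈ M, s * x = x * s) ∧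
        Nonempty (S ≃* Matrix.SpecialLinearGroup (Fin 2) (ZMod 5)) ∧
        (∀ (p : ℕ) [Fact p.Prime] (P : Sylow p M), IsCyclic P) ∧ (Nat.card M).Coprime 30) :
    (Nat.card V = 121 ∧ Nonempty (H ≃* Matrix.SpecialLinearGroup (Fin 2) (ZMod 5))) ∨
    (Nat.card V = 841 ∧
      Nonempty (H ≃* Matrix.SpecialLinearGroup (Fin 2) (ZMod 5) × Multiplicative (ZMod 7))) ∨
    (Nat.card V = 3481 ∧
      Nonempty (H ≃* Matrix.SpecialLinearGroup (Fin 2) (ZMod 5) × Multiplicative (ZMod 29))) := by
  classical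
  obtain ⟨G₀, hG₀n, hι, S, M, hSM, hdisj, hcomm, ⟨e⟩, -, hcop⟩ := core
  have : Finite (V ≃ₗ[ZMod p] V) := Finite.of_injective (fun f => (f : V → V)) DFunLike.coe_injective
  let r : H →* Module.End (ZMod p) V :=
    (LinearEquiv.automorphismGroup.toLinearMapMonoidHom).comp H.subtype
  have hr : ∀ (h : H) (v : V), r h v = (h : V ≃ₗ[ZMod p] V) v := fun _ _ => rfl
  have hfree' : ∀ (h : H) (v : V), v ≠ 0 → (h : V ≃ₗ[ZMod p] V) v = v → h = 1 := by
    intro h v hv hh
    exact (hreg v v hv hv).unique hh rfl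
  have hfree : ∀ g : H, g ≠ 1 → ∀ v : V, r g v = v → v = 0 := by
    intro g hg v hv
    by_contra hv0
    exact hg (hfree' g v hv0 hv)
  -- the quaternion elements
  set i' : H := ((e.symm iM : S) : H) with hi'
  set j' : H := ((e.symm jM : S) : H) with hj'
  set c' : H := ((e.symm cM : S) : H) with hc'
  have hii : i' * i' = c' := by
    rw [hi', hc', ← Subgroup.coe_mul, ← map_mul, iM_sq]
  have hjj : j' * j' = c' := by
    rw [hj', hc', ← Subgroup.coe_mul, ← map_mul, jM_sq]
  have hji : j' * i' = c' * (i' * j') := by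
    rw [hi', hj', hc', ← Subgroup.coe_mul, ← Subgroup.coe_mul, ← Subgroup.coe_mul, ← map_mul,
      ← map_mul, ← map_mul, jM_iM]
  have hc1 : c' ≠ 1 := by
    intro h
    have h1 : e.symm cM = 1 := Subtype.ext h
    have h2 : cM = 1 := by
      have := congrArg e h1
      simpa using this
    exact cM_ne h2
  have hcc : c' * c' = 1 := by
    rw [hc', ← Subgroup.coe_mul, ← map_mul, cM_sq, map_one]; rfl
  obtain ⟨v₀, hv₀⟩ : ∃ v : V, v ≠ 0 := by
    by_contra hcon
    push Not at hcon
    apply hc1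
    apply Subtype.ext
    ext v
    rw [hcon v, map_zero, map_zero]
  have : Nontrivial V := ⟨⟨v₀, 0, hv₀⟩⟩
  have hrc : r c' = -1 := (sq_eq_one_cases r hfree hcc).resolve_left hc1
  have h2 : (2 : ZMod p) ≠ 0 := by
    intro h20
    apply hc1
    apply hfree' c' v₀ hv₀
    rw [← hr, hrc]
    have h3 : v₀ + v₀ = 0 := by rw [← two_smul (ZMod p) v₀, h20, zero_smul]
    simp only [LinearMap.neg_apply, Module.End.one_apply]
    exact (eq_neg_of_add_eq_zero_left h3).symm
  set I := r i' with hI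
  set J := r j' with hJ
  have hII : I * I = -1 := by rw [hI, ← map_mul, hii, hrc]
  have hJJ : J * J = -1 := by rw [hJ, ← map_mul, hjj, hrc]
  have hJI : J * I = -(I * J) := by
    rw [hI, hJ, ← map_mul, hji, map_mul, hrc, map_mul, neg_mul, one_mul]
  obtain ⟨a, b, hab⟩ := ZMod.sq_add_sq p (-1)
  set W := halfSpace a b I J with hW
  have hVW : Nat.card V = Nat.card W ^ 2 := card_eq_sq_halfSpace h2 hab hII hJJ hJI
  -- `M` acts freely on the nonzero vectors of `W`
  have hinv : ∀ (m : M) (v : V), v ∈ W → ((m : H) : V ≃ₗ[ZMod p] V) v ∈ W := by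
    intro m v hv
    have h1 : r (m : H) * I = I * r (m : H) := by
      rw [hI, ← map_mul, ← map_mul, hcomm i' (e.symm iM).2 m m.2]
    have h3 : r (m : H) * J = J * r (m : H) := by
      rw [hJ, ← map_mul, ← map_mul, hcomm j' (e.symm jM).2 m m.2]
    exact halfSpace_invariant (r (m : H)) h1 h3 hv
  let act : MulAction M {w : W // w ≠ 0} :=
    { smul := fun m w => ⟨⟨((m : H) : V ≃ₗ[ZMod p] V) w.1.1, hinv m w.1.1 w.1.2⟩, fun h0 => w.2 (by
          have h4 : ((m : H) : V ≃ₗ[ZMod p] V) w.1.1 = 0 := congrArg Subtype.val h0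
          apply Subtype.ext
          exact (LinearEquiv.map_eq_zero_iff _).mp h4)⟩
      one_smul := fun w => by apply Subtype.ext; apply Subtype.ext; rfl
      mul_smul := fun m m' w => by apply Subtype.ext; apply Subtype.ext; rfl }
  have hstab : ∀ w : {w : W // w ≠ 0}, MulAction.stabilizer M w = ⊥ := by
    intro w
    rw [eq_bot_iff]
    intro m hm
    have h1 : m • w = w := hm
    have h3 : ((m : H) : V ≃ₗ[ZMod p] V) w.1.1 = w.1.1 :=
      congrArg (fun x : {w : W // w ≠ 0} => x.1.1) h1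
    have h4 : w.1.1 ≠ 0 := fun h0 => w.2 (Subtype.ext h0)
    have h5 : (m : H) = 1 := hfree' m _ h4 h3
    exact Subgroup.mem_bot.mpr (Subtype.ext h5)
  have hMdvd : Nat.card M ∣ Nat.card W - 1 := by
    rw [← card_subtype_ne (0 : W)]
    exact card_dvd_of_free hstab
  -- the order of `H`
  have hHcard : Nat.card H = Nat.card V - 1 := by
    rw [← card_subtype_ne (0 : V)]
    apply Nat.card_congr
    refine Equiv.ofBijective (fun h => ⟨(h : V ≃ₗ[ZMod p] V) v₀, fun h0 =>
      hv₀ ((LinearEquiv.map_eq_zero_iff _).mp h0)⟩) ⟨?_, ?_⟩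
    · intro h h' hh
      have h1 : (h : V ≃ₗ[ZMod p] V) v₀ = (h' : V ≃ₗ[ZMod p] V) v₀ := congrArg Subtype.val hh
      have hne : (h' : V ≃ₗ[ZMod p] V) v₀ ≠ 0 := fun h0 => hv₀ ((LinearEquiv.map_eq_zero_iff _).mp h0)
      exact (hreg v₀ _ hv₀ hne).unique h1 rfl
    · rintro ⟨w, hw⟩
      obtain ⟨h, hh, -⟩ := hreg v₀ w hv₀ hw
      exact ⟨h, Subtype.ext hh⟩
  -- the direct product
  let f : S × M →* H := MonoidHom.noncommCoprod S.subtype M.subtype
    (fun s m => hcomm s.1 s.2 m.1 m.2)
  have hfinj : Function.Injective f := by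
    apply (MonoidHom.noncommCoprod_injective _ _ _).mpr
    refine ⟨S.subtype_injective, M.subtype_injective, ?_⟩
    rw [Subgroup.range_subtype, Subgroup.range_subtype]
    exact disjoint_iff.mpr hdisj
  have hfrange : f.range = G₀ := by
    have := MonoidHom.noncommCoprod_range S.subtype M.subtype (fun s m => hcomm s.1 s.2 m.1 m.2)
    rw [Subgroup.range_subtype, Subgroup.range_subtype, hSM] at this
    exact this
  have hScard : Nat.card S = 120 := by rw [Nat.card_congr e.toEquiv]; exact card_S5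
  have hG₀card : Nat.card G₀ = 120 * Nat.card M := by
    rw [← hfrange, ← Nat.card_congr (MonoidHom.ofInjective hfinj).toEquiv, Nat.card_prod, hScard]
  have hHι : Nat.card H = G₀.index * (120 * Nat.card M) := by
    rw [← hG₀card, mul_comm]; exact (Subgroup.card_mul_index G₀).symm
  have hQ2 : 2 ≤ Nat.card W := by
    by_contra hlt
    have hpos : 0 < Nat.card W := Nat.card_pos
    have h1 : Nat.card W = 1 := by omega
    rw [h1] at hVW
    have hHpos : 0 < Nat.card H := Nat.card_pos
    omega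
  have harith := arith689 hι hMdvd hQ2 (by rw [← hVW, ← hHcard, hHι]) hcop
  -- `119` is not a prime power
  have h119 : Nat.card W ≠ 119 := by
    intro h
    have hVp : Nat.card V = p ^ Module.finrank (ZMod p) V := by
      have := Module.natCard_eq_pow_finrank (K := ZMod p) (V := V)
      rwa [Nat.card_zmod] at this
    have hp : p.Prime := Fact.out
    have h7 : 7 ∣ p ^ Module.finrank (ZMod p) V := by
      rw [← hVp, hVW, h]; norm_num
    have h17 : 17 ∣ p ^ Module.finrank (ZMod p) V := by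
      rw [← hVp, hVW, h]; norm_num
    have e7 := (Nat.prime_dvd_prime_iff_eq (by norm_num) hp).mp
      ((by norm_num : Nat.Prime 7).dvd_of_dvd_pow h7)
    have e17 := (Nat.prime_dvd_prime_iff_eq (by norm_num) hp).mp
      ((by norm_num : Nat.Prime 17).dvd_of_dvd_pow h17)
    omega
  have htop : G₀.index = 1 → Function.Bijective f := by
    intro h1
    refine ⟨hfinj, ?_⟩
    rw [← MonoidHom.range_eq_top, hfrange]
    exact Subgroup.index_eq_one.mp h1
  have hprod : ∀ n : ℕ, n.Prime → G₀.index = 1 → Nat.card M = n →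
      Nonempty (H ≃* Matrix.SpecialLinearGroup (Fin 2) (ZMod 5) × Multiplicative (ZMod n)) := by
    intro n hn h1 hM
    have : Fact n.Prime := ⟨hn⟩
    have hcyc : IsCyclic M := isCyclic_of_prime_card hM
    have eM : Multiplicative (ZMod n) ≃* M := by
      have := zmodCyclicMulEquiv hcyc
      rwa [hM] at this
    exact ⟨(MulEquiv.ofBijective f (htop h1)).symm.trans (MulEquiv.prodCongr e eM.symm)⟩
  rcases harith with ⟨hQ, h1, hm⟩ | ⟨hQ, h1, hm⟩ | ⟨hQ, h1, hm⟩ | hQ
  · left
    refine ⟨by rw [hVW, hQ]; norm_num, ?_⟩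
    have hMbot : M = ⊥ := Subgroup.card_eq_one.mp hm
    have hStop : S = ⊤ := by
      have := Subgroup.index_eq_one.mp h1
      rw [← hSM, hMbot, sup_bot_eq] at this
      exact this
    subst hStop
    exact ⟨Subgroup.topEquiv.symm.trans e⟩
  · right; left
    exact ⟨by rw [hVW, hQ]; norm_num, hprod 7 (by norm_num) h1 hm⟩
  · right; right
    exact ⟨by rw [hVW, hQ]; norm_num, hprod 29 (by norm_num) h1 hm⟩
  · exact absurd hQ h119

end Cfsg.Agent.Lib.Helper38.Zass
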