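import Mathlib

set_option autoImplicit false

/-! Rung E of the Zassenhaus ladder: two computations in `SL(2,5)`. -/

namespace Cfsg.Agent.Lib.Helper38.Zass

open Matrix

/-- elements of order three -/
def ord3 : Finset (SpecialLinearGroup (Fin 2) (ZMod 5)) :=
  Finset.univ.filter (fun x => x ^ 3 = 1 ∧ x ≠ 1)

/-- pairs of elements of order three whose product has order ten -/
def pairs310 : Finset (SpecialLinearGroup (Fin 2) (ZMod 5) × SpecialLinearGroup (Fin 2) (ZMod 5)) :=
  (ord3 ×ˢ ord3).filter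
    (fun p => (p.1 * p.2) ^ 10 = 1 ∧ (p.1 * p.2) ^ 5 ≠ 1 ∧ (p.1 * p.2) ^ 2 ≠ 1)

set_option maxRecDepth 100000 in
theorem card_pairs310 : pairs310.card = 120 := by decide +kernel

theorem E1 : Nat.card {p : SpecialLinearGroup (Fin 2) (ZMod 5) × SpecialLinearGroup (Fin 2) (ZMod 5) //
    orderOf p.1 = 3 ∧ orderOf p.2 = 3 ∧ orderOf (p.1 * p.2) = 10} ≤ 120 := by
  have hmem3 : ∀ x : SpecialLinearGroup (Fin 2) (ZMod 5), orderOf x = 3 → x ∈ ord3 := by
    intro x hx
    rw [ord3, Finset.mem_filter]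
    refine ⟨Finset.mem_univ _, ?_, ?_⟩
    · rw [← hx]; exact pow_orderOf_eq_one x
    · intro h; rw [h, orderOf_one] at hx; omega
  have hmem : ∀ p : {p : SpecialLinearGroup (Fin 2) (ZMod 5) × SpecialLinearGroup (Fin 2) (ZMod 5) //
      orderOf p.1 = 3 ∧ orderOf p.2 = 3 ∧ orderOf (p.1 * p.2) = 10}, p.1 ∈ pairs310 := by
    rintro ⟨p, h1, h2, h3⟩
    rw [pairs310, Finset.mem_filter, Finset.mem_product]
    refine ⟨⟨hmem3 _ h1, hmem3 _ h2⟩, ?_, ?_, ?_⟩
    · have := pow_orderOf_eq_one (p.1 * p.2)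
      rwa [h3] at this
    · intro h
      have := orderOf_dvd_of_pow_eq_one h
      rw [h3] at this
      omega
    · intro h
      have := orderOf_dvd_of_pow_eq_one h
      rw [h3] at this
      omega
  have hinj : Function.Injective
      (fun p : {p : SpecialLinearGroup (Fin 2) (ZMod 5) × SpecialLinearGroup (Fin 2) (ZMod 5) //
        orderOf p.1 = 3 ∧ orderOf p.2 = 3 ∧ orderOf (p.1 * p.2) = 10} =>
        (⟨p.1, hmem p⟩ : pairs310)) := by
    intro p q h
    apply Subtype.ext
    exact congrArg (fun z : pairs310 => z.1) h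
  have := Nat.card_le_card_of_injective _ hinj
  rwa [Nat.card_eq_fintype_card (α := pairs310), Fintype.card_coe, card_pairs310] at this

set_option maxRecDepth 100000 in
theorem E2 : Nat.card (Subgroup.center (SpecialLinearGroup (Fin 2) (ZMod 5))) = 2 := by
  rw [Nat.card_eq_fintype_card]
  decide +kernel

end Cfsg.Agent.Lib.Helper38.Zass
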