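import Mathlib
import Cfsg.Agent.Lib.Helper61.ZassDefs
import Cfsg.Agent.Lib.Helper38.ZassD
import Cfsg.Agent.Lib.Helper38.ZassE
import Cfsg.Agent.Lib.Helper11.TwoComplement
import Cfsg.Agent.Lib.Helper57.SylowNormal
import Cfsg.Agent.S3378

set_option autoImplicit false
set_option linter.unusedSectionVars false
set_option linter.unusedVariables false

/-! Rung G of the Zassenhaus ladder. -/

namespace Cfsg.Agent.Lib.Helper38.Zass

open Cfsg.Agent.Lib.Helper61.Zass Subgroup

/-- a perfect group of order `120` with a free representation is `SL(2,5)` -/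
theorem iso_SL25 {E : Type*} [Group E] [Finite E] (hFR : HasFreeRep E) (hcard : Nat.card E = 120)
    (hperf : commutator E = ⊤) :
    Nonempty (E ≃* Matrix.SpecialLinearGroup (Fin 2) (ZMod 5)) := by
  have : Fact (Nat.Prime 2) := ⟨Nat.prime_two⟩
  have hnt : Nontrivial E := by
    apply (Finite.one_lt_card_iff_nontrivial).mp
    omega
  have hns : ¬ Group.IsSolvable E := by
    intro hs
    have := Group.IsSolvable.commutator_lt_top_of_nontrivial E
    rw [hperf] at this
    exact lt_irrefl _ this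
  apply Cfsg.Agent.S3378.result.1 E hcard hns
  intro P
  have hP8 : Nat.card P = 2 ^ 3 := Cfsg.Agent.S3378.sylow_card 2 3 15 (by rw [hcard]; norm_num) (by norm_num) P
  rcases D3 hFR 2 P with hc | ⟨n, ⟨e⟩⟩
  · exfalso
    obtain ⟨N, hNn, hNodd, k, hk⟩ := Cfsg.Agent.Lib.Helper11.NC_of_cyclic_sylow P hc
    apply hns
    have hmul := N.card_mul_index
    rw [hcard] at hmul
    have hlt : Nat.card N < 60 := by
      by_contra hge
      push Not at hge
      have hi : N.index ≤ 2 := by
        by_contra hi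
        push Not at hi
        have : 60 * 3 ≤ Nat.card N * N.index := Nat.mul_le_mul hge hi
        omega
      have hi0 : 0 < N.index := Nat.pos_of_ne_zero (fun h => by rw [h] at hmul; omega)
      rw [Nat.odd_iff] at hNodd
      interval_cases N.index <;> omega
    have h1 : Group.IsSolvable N := Cfsg.Agent.S3378.solvable_of_lt _ N rfl hlt
    have h2 : Group.IsSolvable (E ⧸ N) := by
      have : IsPGroup 2 (E ⧸ N) := IsPGroup.of_card (n := k) (by rw [← hk]; rfl)
      have := this.isNilpotent
      infer_instance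
    exact Group.isSolvable_of_ker_le_range N.subtype (QuotientGroup.mk' N) (by simp)
  · have h1 : Nat.card P = 4 * 2 ^ n := by
      rw [Nat.card_congr e.toEquiv, Nat.card_eq_fintype_card, QuaternionGroup.card]
    have h2 : 2 ^ n = 2 := by omega
    rw [h2] at e
    exact ⟨e⟩

theorem perfect_closure {G : Type*} [Group G] (y w : G) (hy : y ^ 3 = 1) (hw : w ^ 3 = 1)
    (h7 : (y * (w⁻¹ * y * w)) ^ 4 = 1) (h7' : (w * (y⁻¹ * w * y)) ^ 4 = 1) :
    commutator (closure ({y, w} : Set G)) = ⊤ := by
  set E := closure ({y, w} : Set G) with hE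
  have hyE : y ∈ E := subset_closure (by simp)
  have hwE : w ∈ E := subset_closure (by simp)
  let π : E →* Abelianization E := Abelianization.of
  have key : ∀ a b : E, a ^ 3 = 1 → (a * (b⁻¹ * a * b)) ^ 4 = 1 → a ∈ commutator E := by
    intro a b ha hab
    rw [← Abelianization.ker_of, MonoidHom.mem_ker]
    have h1 : π a ^ 3 = 1 := by rw [← map_pow, ha, map_one]
    have h2 : π (a * (b⁻¹ * a * b)) = π a ^ 2 := by
      rw [map_mul, map_mul, map_mul, map_inv, mul_comm (π b)⁻¹ (π a), mul_assoc,
        inv_mul_cancel, mul_one, pow_two]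
    have h3 : (π a ^ 2) ^ 4 = 1 := by rw [← h2, ← map_pow, hab, map_one]
    calc π a = (π a ^ 3) ^ 3 * ((π a ^ 2) ^ 4)⁻¹ := by group
      _ = 1 := by rw [h1, h3]; simp
  have hyc : (⟨y, hyE⟩ : E) ∈ commutator E :=
    key ⟨y, hyE⟩ ⟨w, hwE⟩ (Subtype.ext (by simpa using hy)) (Subtype.ext (by simpa using h7))
  have hwc : (⟨w, hwE⟩ : E) ∈ commutator E :=
    key ⟨w, hwE⟩ ⟨y, hyE⟩ (Subtype.ext (by simpa using hw)) (Subtype.ext (by simpa using h7'))
  rw [eq_top_iff, ← closure_closure_coe_preimage (k := ({y, w} : Set G)), closure_le]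
  rintro ⟨x, hx⟩ hx'
  have hx'' : x = y ∨ x = w := by simpa using hx'
  rcases hx'' with rfl | rfl
  · exact hyc
  · exact hwc

theorem orderOf_conj' {G : Type*} [Group G] (g x : G) : orderOf (g * x * g⁻¹) = orderOf x := by
  simpa using MulEquiv.orderOf_eq (MulAut.conj g) x

theorem orderOf_sq_of_four {G : Type*} [Group G] {f : G} (hf : orderOf f = 4) :
    orderOf (f ^ 2) = 2 := by
  have : Fact (Nat.Prime 2) := ⟨Nat.prime_two⟩
  apply orderOf_eq_prime
  · have := pow_orderOf_eq_one f
    rw [hf] at this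
    rw [← pow_mul]; exact this
  · intro h
    have := orderOf_dvd_of_pow_eq_one h
    rw [hf] at this
    omega

theorem sq_aux {G : Type*} [Group G] (f g : G) (h2 : g⁻¹ * f = f * g⁻¹) :
    (f * g⁻¹) * (f * g⁻¹) = f ^ 2 * (g ^ 2)⁻¹ := by
  calc (f * g⁻¹) * (f * g⁻¹) = f * (g⁻¹ * f) * g⁻¹ := by group
    _ = f * (f * g⁻¹) * g⁻¹ := by rw [h2]
    _ = f ^ 2 * (g ^ 2)⁻¹ := by rw [pow_two, pow_two, mul_inv_rev]; simp only [mul_assoc]

set_option maxHeartbeats 1000000 in
theorem structure_of_NC {G : Type*} [Group G] [Finite G] (hFR : HasFreeRep G) (y w : G)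
    (hy : orderOf y = 3) (hw : orderOf w = 3) (hyw : orderOf (y * w) = 10)
    (hcard : Nat.card (Subgroup.closure {y, w}) = 120)
    (hF : ∀ v : G, orderOf v = 3 → v ∈ Subgroup.closure {y, w})
    (h7 : orderOf (y * (w⁻¹ * y * w)) = 4) (h7' : orderOf (w * (y⁻¹ * w * y)) = 4) :
    ∃ G₀ : Subgroup G, G₀.Normal ∧ (G₀.index = 1 ∨ G₀.index = 2) ∧
      ∃ S M : Subgroup G, S ⊔ M = G₀ ∧ S ⊓ M = ⊥ ∧ (∀ s ∈ S, ∀ x ∈ M, s * x = x * s) ∧
        Nonempty (S ≃* Matrix.SpecialLinearGroup (Fin 2) (ZMod 5)) ∧
        (∀ (p : ℕ) [Fact p.Prime] (P : Sylow p M), IsCyclic P) ∧ (Nat.card M).Coprime 30 := by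
  classical
  have : Fact (Nat.Prime 2) := ⟨Nat.prime_two⟩
  set E := closure ({y, w} : Set G) with hE
  have hyE : y ∈ E := subset_closure (by simp)
  have hwE : w ∈ E := subset_closure (by simp)
  have hEn : E.Normal := by
    constructor
    intro n hn g
    induction hn using Subgroup.closure_induction with
    | mem x hx =>
      apply hF
      rw [orderOf_conj']
      have hx' : x = y ∨ x = w := by simpa using hx
      rcases hx' with rfl | rfl
      · exact hy
      · exact hw
    | one => simp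
    | mul a b _ _ ha hb =>
      have : g * (a * b) * g⁻¹ = (g * a * g⁻¹) * (g * b * g⁻¹) := by group
      rw [this]; exact mul_mem ha hb
    | inv a _ ha =>
      have : g * a⁻¹ * g⁻¹ = (g * a * g⁻¹)⁻¹ := by group
      rw [this]; exact inv_mem ha
  have hperf : commutator E = ⊤ := perfect_closure y w
    (by rw [← hy]; exact pow_orderOf_eq_one y) (by rw [← hw]; exact pow_orderOf_eq_one w)
    (by rw [← h7]; exact pow_orderOf_eq_one _) (by rw [← h7']; exact pow_orderOf_eq_one _)
  obtain ⟨e⟩ := iso_SL25 (hFR.subgroup E) hcard hperf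
  set C := centralizer (E : Set G) with hC
  have hCn : C.Normal := inferInstance
  -- the index of `C`
  have hidx : C.index ≤ 120 := by
    let Ψ : G → {p : Matrix.SpecialLinearGroup (Fin 2) (ZMod 5) ×
        Matrix.SpecialLinearGroup (Fin 2) (ZMod 5) //
        orderOf p.1 = 3 ∧ orderOf p.2 = 3 ∧ orderOf (p.1 * p.2) = 10} := fun g =>
      ⟨(e ⟨g * y * g⁻¹, hEn.conj_mem y hyE g⟩, e ⟨g * w * g⁻¹, hEn.conj_mem w hwE g⟩), by
        refine ⟨?_, ?_, ?_⟩
        · rw [MulEquiv.orderOf_eq, Subgroup.orderOf_mk, orderOf_conj', hy]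
        · rw [MulEquiv.orderOf_eq, Subgroup.orderOf_mk, orderOf_conj', hw]
        · show orderOf (e _ * e _) = 10
          rw [← map_mul, MulEquiv.orderOf_eq, ← Subgroup.orderOf_coe]
          have : (((⟨g * y * g⁻¹, hEn.conj_mem y hyE g⟩ : E) *
              ⟨g * w * g⁻¹, hEn.conj_mem w hwE g⟩ : E) : G) = g * (y * w) * g⁻¹ := by
            show g * y * g⁻¹ * (g * w * g⁻¹) = g * (y * w) * g⁻¹
            group
          rw [this, orderOf_conj', hyw]⟩
    have hΨ : ∀ g g' : G, Ψ g = Ψ g' → g⁻¹ * g' ∈ C := by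
      intro g g' h
      have h1 : g * y * g⁻¹ = g' * y * g'⁻¹ := by
        have := congrArg (fun p => p.1.1) h
        have h2 := e.injective this
        exact congrArg Subtype.val h2
      have h2 : g * w * g⁻¹ = g' * w * g'⁻¹ := by
        have := congrArg (fun p => p.1.2) h
        have h2 := e.injective this
        exact congrArg Subtype.val h2
      have hle : E ≤ centralizer {g⁻¹ * g'} := by
        rw [hE, closure_le]
        intro x hx
        have hx' : x = y ∨ x = w := by simpa using hx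
        rw [SetLike.mem_coe, mem_centralizer_singleton_iff]
        rcases hx' with rfl | rfl
        · calc x * (g⁻¹ * g') = g⁻¹ * (g * x * g⁻¹) * g' := by group
            _ = g⁻¹ * (g' * x * g'⁻¹) * g' := by rw [h1]
            _ = g⁻¹ * g' * x := by group
        · calc x * (g⁻¹ * g') = g⁻¹ * (g * x * g⁻¹) * g' := by group
            _ = g⁻¹ * (g' * x * g'⁻¹) * g' := by rw [h2]
            _ = g⁻¹ * g' * x := by group
      rw [hC, mem_centralizer_iff]
      intro h hh
      exact mem_centralizer_singleton_iff.mp (hle hh)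
    have hinj : Function.Injective (fun q : G ⧸ C => Ψ q.out) := by
      intro q q' h
      have := hΨ _ _ h
      rw [← QuotientGroup.eq, QuotientGroup.out_eq', QuotientGroup.out_eq'] at this
      exact this
    exact (Nat.card_le_card_of_injective _ hinj).trans E1
  -- the intersection
  set Z := E ⊓ C with hZ
  have hZ2 : Nat.card Z ≤ 2 := by
    have hcen : ∀ x : Z, e ⟨x.1, x.2.1⟩ ∈ center (Matrix.SpecialLinearGroup (Fin 2) (ZMod 5)) := by
      intro x
      rw [mem_center_iff]
      intro s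
      obtain ⟨t, rfl⟩ := e.surjective s
      rw [← map_mul, ← map_mul]
      congr 1
      apply Subtype.ext
      exact mem_centralizer_iff.mp x.2.2 t t.2
    have hinj : Function.Injective (fun x : Z =>
        (⟨e ⟨x.1, x.2.1⟩, hcen x⟩ : center (Matrix.SpecialLinearGroup (Fin 2) (ZMod 5)))) := by
      intro x x' h
      have h1 := congrArg Subtype.val h
      have h2 := e.injective h1
      apply Subtype.ext
      exact congrArg (fun t : E => (t : G)) h2
    have := Nat.card_le_card_of_injective _ hinj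
    rwa [E2] at this
  have hZpos : 0 < Nat.card Z := Nat.card_pos
  have hCpos : 0 < Nat.card C := Nat.card_pos
  have hprod : Nat.card (E ⊔ C : Subgroup G) * Nat.card Z = 120 * Nat.card C := by
    rw [← hcard]; exact Cfsg.Agent.Lib.Helper57.card_sup_mul_card_inf E C
  have hG₀n : (E ⊔ C).Normal := inferInstance
  have hG₀idx : (E ⊔ C).index = 1 ∨ (E ⊔ C).index = 2 := by
    have h1 := (E ⊔ C).card_mul_index
    have h2 := C.card_mul_index
    have h3 : 0 < (E ⊔ C).index := Nat.pos_of_ne_zero Subgroup.index_ne_zero_of_finite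
    have h4 : 120 * Nat.card C ≤ Nat.card (E ⊔ C : Subgroup G) * 2 := by
      rw [← hprod]; exact Nat.mul_le_mul_left _ hZ2
    have h5 : Nat.card G ≤ Nat.card C * 120 := by
      rw [← h2]; exact Nat.mul_le_mul_left _ hidx
    have h6 : Nat.card (E ⊔ C : Subgroup G) * (E ⊔ C).index ≤ Nat.card (E ⊔ C : Subgroup G) * 2 := by
      rw [h1]; omega
    have h7 : (E ⊔ C).index ≤ 2 := Nat.le_of_mul_le_mul_left h6 Nat.card_pos
    omega
  -- elements of `Z` have order at most two
  have hZord : ∀ x ∈ Z, orderOf x ≤ 2 := by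
    intro x hx
    have h1 : orderOf (⟨x, hx⟩ : Z) ∣ Nat.card Z := orderOf_dvd_natCard _
    rw [Subgroup.orderOf_mk] at h1
    exact (Nat.le_of_dvd hZpos h1).trans hZ2
  -- an element of order four in `E`
  set g := y * (w⁻¹ * y * w) with hg
  have hgE : g ∈ E := mul_mem hyE (mul_mem (mul_mem (inv_mem hwE) hyE) hwE)
  have hg2 : orderOf (g ^ 2) = 2 := orderOf_sq_of_four h7
  have hno4 : ∀ f ∈ C, orderOf f ≠ 4 := by
    intro f hf hf4
    have hcomm : g * f = f * g := mem_centralizer_iff.mp hf g hgE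
    have hf2 : f ^ 2 = g ^ 2 := D1 hFR _ _ (orderOf_sq_of_four hf4) hg2
    have hu : (f * g⁻¹) * (f * g⁻¹) = 1 := by
      have hc : Commute f g := hcomm.symm
      rw [sq_aux f g (hc.inv_right).eq.symm, hf2, mul_inv_cancel]
    have hfE : f ∈ E := by
      by_cases h1 : f * g⁻¹ = 1
      · have : f = g := by
          calc f = (f * g⁻¹) * g := by group
            _ = g := by rw [h1, one_mul]
        rw [this]; exact hgE
      · have h2 : orderOf (f * g⁻¹) = 2 := orderOf_eq_prime (by rw [pow_two]; exact hu) h1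
        have h3 : f * g⁻¹ = g ^ 2 := D1 hFR _ _ h2 hg2
        have : f = g ^ 2 * g := by
          calc f = (f * g⁻¹) * g := by group
            _ = g ^ 2 * g := by rw [h3]
        rw [this]; exact mul_mem (pow_mem hgE 2) hgE
    have := hZord f ⟨hfE, hf⟩
    omega
  have h4C : ¬ 4 ∣ Nat.card C := by
    intro h4
    obtain ⟨K, hK⟩ := Sylow.exists_subgroup_card_pow_prime (G := C) 2 (n := 2) (by simpa using h4)
    have hKord : ∀ k : K, k ≠ 1 → orderOf ((k : C) : G) = 2 := by
      intro k hk
      have h1 : orderOf k ∣ 2 ^ 2 := hK ▸ orderOf_dvd_natCard k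
      rw [← Subgroup.orderOf_coe, ← Subgroup.orderOf_coe] at h1
      obtain ⟨j, hj, hj'⟩ := (Nat.dvd_prime_pow Nat.prime_two).mp h1
      have hne4 := hno4 ((k : C) : G) (k : C).2
      have hne1 : orderOf ((k : C) : G) ≠ 1 := by
        intro h
        rw [orderOf_eq_one_iff] at h
        apply hk
        apply Subtype.ext
        apply Subtype.ext
        exact h
      interval_cases j
      · exact absurd hj' hne1
      · exact hj'
      · exact absurd hj' hne4
    have hKnt : Nontrivial K := by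
      apply (Finite.one_lt_card_iff_nontrivial).mp
      rw [hK]; norm_num
    obtain ⟨t, ht⟩ := exists_ne (1 : K)
    have hall : ∀ s : K, s ∈ zpowers t := by
      intro s
      by_cases hs : s = 1
      · rw [hs]; exact one_mem _
      · have : s = t := by
          apply Subtype.ext
          apply Subtype.ext
          exact D1 hFR _ _ (hKord s hs) (hKord t ht)
        rw [this]; exact mem_zpowers t
    have h1 : Nat.card K = orderOf t := by
      rw [← Nat.card_zpowers, (eq_top_iff' _).mpr hall, Subgroup.card_top]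
    rw [← Subgroup.orderOf_coe, ← Subgroup.orderOf_coe, hKord t ht, hK] at h1
    omega
  -- the central involution
  have hzC : g ^ 2 ∈ C := by
    rw [hC, mem_centralizer_iff]
    intro h hh
    have h1 : h * g ^ 2 * h⁻¹ = g ^ 2 := D1 hFR _ _ (by rw [orderOf_conj']; exact hg2) hg2
    calc h * g ^ 2 = (h * g ^ 2 * h⁻¹) * h := by group
      _ = g ^ 2 * h := by rw [h1]
  have hzE : g ^ 2 ∈ E := pow_mem hgE 2
  set N : Subgroup C := zpowers (⟨g ^ 2, hzC⟩ : C) with hN
  have hNn : N.Normal := by
    have hle : N ≤ center C := by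
      rw [hN, zpowers_le, mem_center_iff]
      intro c
      apply Subtype.ext
      exact (mem_centralizer_iff.mp c.2 (g ^ 2) hzE).symm
    constructor
    intro n hn c
    have h1 : c * n * c⁻¹ = n := by
      rw [mem_center_iff.mp (hle hn) c]; group
    rw [h1]; exact hn
  have hNcard : Nat.card N = 2 := by
    rw [hN, Nat.card_zpowers, Subgroup.orderOf_mk, hg2]
  have hNidx : Nat.card N * N.index = Nat.card C := N.card_mul_index
  have hNodd : ¬ 2 ∣ N.index := by
    intro h
    apply h4C
    rw [← hNidx, hNcard]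
    obtain ⟨k, hk⟩ := h
    exact ⟨k, by rw [hk]; ring⟩
  obtain ⟨M', hM'⟩ := Subgroup.exists_left_complement'_of_coprime (N := N) (by
    rw [hNcard]; exact (Nat.Prime.coprime_iff_not_dvd Nat.prime_two).mpr hNodd)
  have hM'card : Nat.card M' = N.index := by
    have h1 := hM'.card_mul_card
    rw [← hNidx, mul_comm] at h1
    exact Nat.eq_of_mul_eq_mul_left (by rw [hNcard]; norm_num) h1
  set M := M'.map C.subtype with hM
  have hMcard : Nat.card M = N.index := by
    rw [hM, Subgroup.card_map_of_injective C.subtype_injective, hM'card]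
  have hMC : M ≤ C := Subgroup.map_subtype_le M'
  have hModd : ¬ 2 ∣ Nat.card M := by rw [hMcard]; exact hNodd
  have hEM : E ⊓ M = ⊥ := by
    rw [eq_bot_iff]
    intro x hx
    have h1 := hZord x ⟨hx.1, hMC hx.2⟩
    have h2 : orderOf (⟨x, hx.2⟩ : M) ∣ Nat.card M := orderOf_dvd_natCard _
    rw [Subgroup.orderOf_mk] at h2
    have h3 : 0 < orderOf x := orderOf_pos x
    have h4 : orderOf x ≠ 2 := fun h => hModd (h ▸ h2)
    have h5 : orderOf x = 1 := by omega
    exact mem_bot.mpr (orderOf_eq_one_iff.mp h5)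
  have hsup : E ⊔ M = E ⊔ C := by
    apply le_antisymm (sup_le_sup_left hMC E)
    apply sup_le le_sup_left
    have h1 : C = (M' ⊔ N).map C.subtype := by
      rw [hM'.sup_eq_top, ← MonoidHom.range_eq_map, Subgroup.range_subtype]
    rw [h1, Subgroup.map_sup]
    apply sup_le le_sup_right
    apply le_trans _ (le_sup_left : E ≤ E ⊔ M)
    rw [hN, MonoidHom.map_zpowers, zpowers_le]
    exact hzE
  refine ⟨E ⊔ C, hG₀n, hG₀idx, E, M, hsup, hEM, ?_, ⟨e⟩, ?_, ?_⟩
  · intro s hs x hx
    exact mem_centralizer_iff.mp (hMC hx) s hs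
  · intro p _ P
    rcases D3 (hFR.subgroup M) p P with hc | ⟨n, ⟨q⟩⟩
    · exact hc
    · exfalso
      apply hModd
      have h1 : Nat.card P = 4 * 2 ^ n := by
        rw [Nat.card_congr q.toEquiv, Nat.card_eq_fintype_card, QuaternionGroup.card]
      have h2 : Nat.card P ∣ Nat.card M := Subgroup.card_subgroup_dvd_card _
      rw [h1] at h2
      exact dvd_trans ⟨2 * 2 ^ n, by ring⟩ h2
  · have h3 : ¬ 3 ∣ Nat.card M := by
      intro h
      have : Fact (Nat.Prime 3) := ⟨Nat.prime_three⟩
      obtain ⟨x, hx⟩ := exists_prime_orderOf_dvd_card' 3 h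
      have hx3 : orderOf (x : G) = 3 := by rw [Subgroup.orderOf_coe]; exact hx
      have h1 : (x : G) ∈ E ⊓ M := ⟨hF _ hx3, x.2⟩
      rw [hEM, mem_bot] at h1
      rw [h1, orderOf_one] at hx3
      omega
    have h5 : ¬ 5 ∣ Nat.card M := by
      intro h
      have : Fact (Nat.Prime 5) := ⟨by norm_num⟩
      obtain ⟨x, hx⟩ := exists_prime_orderOf_dvd_card' 5 h
      have hx5 : orderOf (x : G) = 5 := by rw [Subgroup.orderOf_coe]; exact hx
      have he5 : orderOf ((y * w) ^ 2) = 5 := by
        rw [orderOf_pow_of_dvd (by norm_num) (by rw [hyw]; norm_num), hyw]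
      have he5E : (y * w) ^ 2 ∈ E := pow_mem (mul_mem hyE hwE) 2
      have hc : Commute ((y * w) ^ 2) (x : G) := mem_centralizer_iff.mp (hMC x.2) _ he5E
      have h1 : (x : G) ∈ zpowers ((y * w) ^ 2) := D2 hFR _ _ he5 hx5 hc
      have h2 : (x : G) ∈ E ⊓ M := ⟨(zpowers_le.mpr he5E) h1, x.2⟩
      rw [hEM, mem_bot] at h2
      rw [h2, orderOf_one] at hx5
      omega
    have c2 : (Nat.card M).Coprime 2 := ((Nat.Prime.coprime_iff_not_dvd Nat.prime_two).mpr hModd).symm
    have c3 : (Nat.card M).Coprime 3 := ((Nat.Prime.coprime_iff_not_dvd Nat.prime_three).mpr h3).symm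
    have c5 : (Nat.card M).Coprime 5 :=
      ((Nat.Prime.coprime_iff_not_dvd (by norm_num : Nat.Prime 5)).mpr h5).symm
    have : (30 : ℕ) = 2 * 3 * 5 := by norm_num
    rw [this]
    exact Nat.Coprime.mul_right (Nat.Coprime.mul_right c2 c3) c5

end Cfsg.Agent.Lib.Helper38.Zass
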