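import Mathlib

set_option autoImplicit false

/-! Rung P of the Zassenhaus ladder: a non-solvable finite group has a nontrivial perfect subgroup. -/

namespace Cfsg.Agent.Lib.Helper38.Zass

universe u

theorem commutator_eq_top_of_equiv {X Y : Type*} [Group X] [Group Y] (e : X ≃* Y)
    (h : commutator X = ⊤) : commutator Y = ⊤ := by
  have h1 : (commutator X).map e.toMonoidHom = commutator Y := by
    rw [commutator_def, commutator_def, Subgroup.map_commutator,
      Subgroup.map_top_of_surjective _ e.surjective]
  rw [← h1, h, Subgroup.map_top_of_surjective _ e.surjective]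

theorem exists_perfect_subgroup_aux (n : ℕ) :
    ∀ (G : Type u) [Group G] [Finite G], Nat.card G = n → ¬ Group.IsSolvable G →
      ∃ R : Subgroup G, R ≠ ⊥ ∧ commutator R = ⊤ := by
  induction n using Nat.strong_induction_on with
  | _ n ih =>
  intro G _ _ hn hns
  by_cases hD : commutator G = ⊤
  · refine ⟨⊤, ?_, commutator_eq_top_of_equiv Subgroup.topEquiv.symm hD⟩
    intro h
    apply hns
    have : Subsingleton G := Subgroup.subsingleton_iff.mp ⟨fun a b => by
      have ha : a = ⊥ := le_antisymm (h ▸ le_top) bot_le
      have hb : b = ⊥ := le_antisymm (h ▸ le_top) bot_le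
      rw [ha, hb]⟩
    infer_instance
  · have hlt : Nat.card (commutator G) < n := by
      rw [← hn]
      by_contra hge
      push Not at hge
      exact hD (Subgroup.eq_top_of_le_card _ hge)
    have hns' : ¬ Group.IsSolvable (commutator G) := by
      intro hs
      apply hns
      have : Group.IsSolvable (G ⧸ commutator G) := by
        have : Group.IsSolvable (Abelianization G) := inferInstance
        exact this
      exact Group.isSolvable_of_ker_le_range (commutator G).subtype
        (QuotientGroup.mk' (commutator G)) (by simp)
    obtain ⟨R', hR', hperf⟩ := ih _ hlt (commutator G) rfl hns'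
    refine ⟨R'.map (commutator G).subtype, ?_, ?_⟩
    · intro h
      apply hR'
      exact (Subgroup.map_eq_bot_iff_of_injective _ (Subgroup.subtype_injective _)).mp h
    · exact commutator_eq_top_of_equiv
        (R'.equivMapOfInjective _ (Subgroup.subtype_injective _)) hperf

theorem exists_perfect_subgroup {G : Type*} [Group G] [Finite G] (h : ¬ Group.IsSolvable G) :
    ∃ R : Subgroup G, R ≠ ⊥ ∧ commutator R = ⊤ :=
  exists_perfect_subgroup_aux _ G rfl h

end Cfsg.Agent.Lib.Helper38.Zass
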