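import Mathlib
import Cfsg.Agent.Lib.Helper19.Quat
import Cfsg.Agent.Lib.Helper77.Frobenius
import Cfsg.Agent.Lib.Helper77.CoprimeAut

set_option autoImplicit false

namespace Cfsg.Agent.Lib.Helper38.Zass

open Subgroup

/-- A group with a cyclic subgroup of index dividing `2` is generated by two elements. -/
theorem two_gen_of_cyclic_index {Q : Type*} [Group Q] (C : Subgroup Q) [hC : IsCyclic C]
    (h : C.index ∣ 2) : ∃ x y : Q, closure ({x, y} : Set Q) = ⊤ := by
  obtain ⟨c, hc⟩ := IsCyclic.exists_generator (α := C)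
  have hCle : ∀ y : Q, C ≤ closure ({(c : Q), y} : Set Q) := by
    intro y d hd
    obtain ⟨k, hk⟩ := Subgroup.mem_zpowers_iff.mp (hc ⟨d, hd⟩)
    have h1 : (c : Q) ^ k = d := by
      have := congrArg (Subtype.val) hk
      simpa using this
    rw [← h1]
    exact Subgroup.zpow_mem _ (subset_closure (by simp)) k
  rcases (Nat.dvd_prime Nat.prime_two).mp h with h1 | h2
  · refine ⟨c, c, ?_⟩
    rw [Subgroup.index_eq_one] at h1
    exact top_le_iff.mp (h1 ▸ hCle c)
  · obtain ⟨a, ha⟩ := Subgroup.index_eq_two_iff.mp h2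
    by_cases hall : ∀ y : Q, y ∈ C
    · refine ⟨c, c, ?_⟩
      exact top_le_iff.mp (fun y _ => hCle c (hall y))
    · push Not at hall
      obtain ⟨y, hy⟩ := hall
      refine ⟨c, y, ?_⟩
      apply top_le_iff.mp
      intro b _
      have hyK : y ∈ closure ({(c : Q), y} : Set Q) := subset_closure (by simp)
      have hya : y * a ∈ C := by
        rcases ha y with h | h
        · exact h.1
        · exact absurd h.1 hy
      have haK : a ∈ closure ({(c : Q), y} : Set Q) := by
        have : a = y⁻¹ * (y * a) := by group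
        rw [this]
        exact mul_mem (inv_mem hyK) (hCle y hya)
      rcases ha b with h | h
      · have : b = (b * a) * a⁻¹ := by group
        rw [this]
        exact mul_mem (hCle y h.1) (inv_mem haK)
      · exact hCle y h.1

/-- A group embedding in a generalized quaternion group is generated by two elements. -/
theorem two_gen_of_injective_quaternion {Q : Type*} [Group Q] {m : ℕ} [NeZero m]
    (f : Q →* QuaternionGroup m) (hf : Function.Injective f) :
    ∃ x y : Q, closure ({x, y} : Set Q) = ⊤ := by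
  let A : Subgroup (QuaternionGroup m) := Subgroup.zpowers (QuaternionGroup.a 1)
  have : IsCyclic (A.comap f) := by
    apply isCyclic_of_injective (f.subgroupComap A)
    intro a b hab
    apply Subtype.ext
    apply hf
    exact congrArg Subtype.val hab
  apply two_gen_of_cyclic_index (A.comap f)
  rw [Subgroup.index_comap]
  have h1 : A.relIndex f.range ∣ A.index := by
    have : A.Normal := Subgroup.normal_of_index_eq_two Cfsg.Agent.Lib.Helper19.quat_index_zpowers_a_one
    exact Subgroup.relIndex_dvd_index_of_normal A _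
  rwa [Cfsg.Agent.Lib.Helper19.quat_index_zpowers_a_one] at h1

/-- An automorphism of a two-generated `2`-group whose order is prime to `6` is trivial. -/
theorem aut_eq_one_of_two_gen {Q : Type*} [Group Q] [Finite Q] (hQ : IsPGroup 2 Q) (x y : Q)
    (hxy : closure ({x, y} : Set Q) = ⊤) (β : MulAut Q) (h2 : ¬ 2 ∣ orderOf β)
    (h3 : ¬ 3 ∣ orderOf β) : β = 1 := by
  by_contra hne
  have ho : orderOf β ≠ 1 := fun h => hne (orderOf_eq_one_iff.mp h)
  obtain ⟨r, hr, hrd⟩ := Nat.exists_prime_and_dvd ho
  have : Fact r.Prime := ⟨hr⟩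
  have : Fact (Nat.Prime 2) := ⟨Nat.prime_two⟩
  have hpos : 0 < orderOf β := orderOf_pos β
  set γ : MulAut Q := β ^ (orderOf β / r) with hγ
  have hγo : orderOf γ = r := orderOf_pow_orderOf_div hpos.ne' hrd
  have hR : IsPGroup r (Subgroup.zpowers γ) := by
    apply IsPGroup.of_card (n := 1)
    rw [Nat.card_zpowers, hγo, pow_one]
  have hr2 : r ≠ 2 := fun h => h2 (h ▸ hrd)
  have hr3 : r ≠ 3 := fun h => h3 (h ▸ hrd)
  have hD := Cfsg.Agent.Lib.Helper77.card_frattini_quotient_le_of_two_gen hQ x y hxy
  have := Cfsg.Agent.Lib.Helper77.aut_trivial_of_card_frattini_quotient hQ (Subgroup.zpowers γ) hR hr2 2 hD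
    (by
      intro i h1 h2' hdvd
      have : i = 1 ∨ i = 2 := by omega
      rcases this with rfl | rfl
      · norm_num at hdvd
        exact hr.one_lt.ne' hdvd
      · norm_num at hdvd
        exact hr3 ((Nat.prime_dvd_prime_iff_eq hr Nat.prime_three).mp hdvd))
    γ (Subgroup.mem_zpowers γ)
  rw [this, orderOf_one] at hγo
  exact hr.one_lt.ne hγo

theorem solvable_of_three_not_dvd {H : Type*} [Group H] [Finite H]
    (hS : ∀ (p : ℕ) [Fact p.Prime] (P : Sylow p H),
      IsCyclic P ∨ ∃ n : ℕ, Nonempty (P ≃* QuaternionGroup (2 ^ n)))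
    (h3 : ¬ 3 ∣ Nat.card H) : Group.IsSolvable H := by
  classical
  have : Fact (Nat.Prime 2) := ⟨Nat.prime_two⟩
  obtain ⟨P⟩ : Nonempty (Sylow 2 H) := inferInstance
  -- the Frobenius condition
  have hF : Cfsg.Agent.Lib.Helper77.FrobCond 2 H := by
    apply Cfsg.Agent.Lib.Helper77.frobCond_of_sylow P
    intro Q hQP g hg hgo
    have hQp : IsPGroup 2 Q := P.isPGroup'.to_le hQP
    obtain ⟨x, y, hxy⟩ : ∃ x y : Q, closure ({x, y} : Set Q) = ⊤ := by
      rcases hS 2 P with hc | ⟨n, ⟨e⟩⟩
      · have : IsCyclic Q := isCyclic_of_injective (Subgroup.inclusion hQP)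
          (Subgroup.inclusion_injective hQP)
        have : IsCyclic (⊤ : Subgroup Q) :=
          isCyclic_of_injective (⊤ : Subgroup Q).subtype (Subgroup.subtype_injective _)
        exact two_gen_of_cyclic_index (⊤ : Subgroup Q) (by simp)
      · exact two_gen_of_injective_quaternion (e.toMonoidHom.comp (Subgroup.inclusion hQP))
          (e.injective.comp (Subgroup.inclusion_injective hQP))
    -- the automorphism induced by g
    let N : Subgroup H := normalizer (Q : Set H)
    let φ : N →* MulAut Q := Subgroup.normalizerMonoidHom Q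
    set β : MulAut Q := φ ⟨g, hg⟩ with hβ
    have hβo : orderOf β ∣ orderOf g := by
      have h1 : orderOf β ∣ orderOf (⟨g, hg⟩ : N) := orderOf_map_dvd φ _
      rwa [Subgroup.orderOf_mk] at h1
    have hb2 : ¬ 2 ∣ orderOf β := fun h => by
      have := Nat.Coprime.eq_one_of_dvd hgo.symm (h.trans hβo)
      omega
    have hb3 : ¬ 3 ∣ orderOf β := fun h => h3 ((h.trans hβo).trans (orderOf_dvd_natCard g))
    have hβ1 : β = 1 := aut_eq_one_of_two_gen hQp x y hxy β hb2 hb3
    rw [mem_centralizer_iff]
    intro q hq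
    have h5 := congrArg (fun ψ : MulAut Q => ((ψ ⟨q, hq⟩ : Q) : H)) hβ1
    have h6 : g * q * g⁻¹ = q := h5
    calc q * g = (g * q * g⁻¹) * g := by rw [h6]
      _ = g * q := by group
  obtain ⟨K, hKn, hKc, k, hk⟩ := Cfsg.Agent.Lib.Helper77.npc_iff_frobCond.mpr hF
  -- K is a Z-group
  have : IsZGroup K := by
    constructor
    intro p hp R
    have : Fact p.Prime := ⟨hp⟩
    have hRp : IsPGroup p ((R : Subgroup K).map K.subtype) := R.isPGroup'.map _
    obtain ⟨S, hS'⟩ := hRp.exists_le_sylow
    have hinj : Function.Injective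
        ((Subgroup.inclusion hS').comp ((K.subtype.subgroupMap (R : Subgroup K)))) := by
      intro a b hab
      have h1 := congrArg (fun z : S => (z : H)) hab
      apply Subtype.ext
      apply Subtype.ext
      simpa using h1
    rcases hS p S with hc | ⟨n, ⟨e⟩⟩
    · exact isCyclic_of_injective _ hinj
    · -- then p = 2 and R is trivial
      have hcardS : Nat.card S = 4 * 2 ^ n := by
        rw [Nat.card_congr e.toEquiv, Nat.card_eq_fintype_card, QuaternionGroup.card]
      obtain ⟨j, hj⟩ := IsPGroup.iff_card.mp S.isPGroup'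
      have h2p : 2 ∣ p ^ j := by
        rw [← hj, hcardS]; exact ⟨2 * 2 ^ n, by ring⟩
      have hp2 : p = 2 :=
        ((Nat.prime_dvd_prime_iff_eq Nat.prime_two hp).mp (Nat.prime_two.dvd_of_dvd_pow h2p)).symm
      obtain ⟨i, hi⟩ := IsPGroup.iff_card.mp R.isPGroup'
      have hRK : Nat.card R ∣ Nat.card K := Subgroup.card_subgroup_dvd_card _
      have hR1 : Nat.card R = 1 := by
        apply Nat.Coprime.eq_one_of_dvd _ (dvd_refl _)
        have : (Nat.card R).Coprime 2 := Nat.Coprime.coprime_dvd_left hRK hKc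
        rw [hi, hp2] at this ⊢
        rcases i with _ | i
        · simp
        · exfalso
          have h4 : (2 : ℕ) ∣ Nat.gcd (2 ^ (i + 1)) 2 := Nat.dvd_gcd ⟨2 ^ i, by ring⟩ (dvd_refl 2)
          rw [Nat.Coprime] at this
          rw [this] at h4
          omega
      have : Subsingleton R := (Nat.card_eq_one_iff_unique.mp hR1).1
      infer_instance
  have : Group.IsSolvable K := inferInstance
  have : Group.IsSolvable (H ⧸ K) := by
    have : IsPGroup 2 (H ⧸ K) := IsPGroup.of_card (n := k) (by rw [← hk]; rfl)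
    have := this.isNilpotent
    infer_instance
  exact Group.isSolvable_of_ker_le_range K.subtype (QuotientGroup.mk' K) (by simp)

end Cfsg.Agent.Lib.Helper38.Zass
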