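import Mathlib
import Cfsg.Agent.Lib.Helper7.SL2PPrime

set_option autoImplicit false
set_option linter.unusedSimpArgs false
set_option linter.unusedSectionVars false
set_option linter.unusedVariables false

/-! Abstract class equation: commuting is transitive off the centre and a conjugate of `g`
commuting with `g` is `g` or `g⁻¹`.  (Abstract form of `Helper7.pprime_analysis`.) -/

namespace Cfsg.Agent.Lib.Helper38.Zass

open Subgroup Cfsg.Agent.Lib.Helper7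

variable {G : Type*} [Group G]

/-- a conjugate of `g` commuting with `g` is `g` or `g⁻¹` -/
def InvProp (G : Type*) [Group G] : Prop :=
  ∀ g h : G, Commute (h * g * h⁻¹) g → h * g * h⁻¹ = g ∨ h * g * h⁻¹ = g⁻¹

/-- full centraliser, in the language of `Helper7.ClassEq` -/
abbrev cen (x : G) : Subgroup G := cenIn (⊤ : Subgroup G) x

/-- normaliser of the centraliser -/
abbrev ncen (x : G) : Subgroup G := norIn (⊤ : Subgroup G) (cen x)

/-- the class of the centraliser -/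
abbrev ucl (x : G) : Set G := Ucl (⊤ : Subgroup G) (cen x)

theorem ncen_cen_or_inv (hI : InvProp G) {x h : G} (hh : h ∈ ncen x) :
    h ∈ cen x ∨ h * x * h⁻¹ = x⁻¹ := by
  obtain ⟨hhH, hn⟩ := mem_norIn.1 hh
  have h1 : h * x * h⁻¹ ∈ cen x := (hn x).1 (self_mem_cenIn (mem_top x))
  rcases hI x h (mem_cenIn.1 h1).2 with h4 | h4
  · left
    refine mem_cenIn.2 ⟨hhH, ?_⟩
    show h * x = x * h
    have := congrArg (· * h) h4
    simpa using this
  · right; exact h4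

theorem classData [Finite G] (hCT : CommTrans G) (hI : InvProp G) {x : G} (hxc : x ∉ center G) :
    ∃ c ε : ℕ, 2 ≤ c ∧ (ε = 1 ∨ ε = 2) ∧ Nat.card (cen x) = Nat.card (center G) * c ∧
      Nat.card (ncen x) = ε * (Nat.card (center G) * c) ∧
      (ucl x).ncard * (ε * c) = Nat.card G * (c - 1) := by
  have hZ : center G ≤ (⊤ : Subgroup G) := le_top
  set z := Nat.card (center G) with hz
  set A := cen x with hA
  have hZA : center G ≤ A := center_le_cenIn hZ x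
  have hzpos : 0 < z := Nat.card_pos
  obtain ⟨c, hc⟩ : z ∣ Nat.card A := card_dvd_of_le hZA
  have hc2 : 2 ≤ c := by
    by_contra hlt
    have hle : Nat.card A ≤ Nat.card (center G) := by
      rw [← hz, hc]
      have : c ≤ 1 := by omega
      calc z * c ≤ z * 1 := Nat.mul_le_mul_left _ this
        _ = z := mul_one _
    have := eq_of_le_of_card_ge hZA hle
    apply hxc
    rw [this]
    exact self_mem_cenIn (mem_top x)
  have hAN : A ≤ norIn ⊤ A := le_norIn (cenIn_le ⊤ x)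
  have hinv : ∀ h ∈ norIn ⊤ A, h ∈ A ∨ h * x * h⁻¹ = x⁻¹ := fun h hh => ncen_cen_or_inv hI hh
  have hε : ∃ ε : ℕ, (ε = 1 ∨ ε = 2) ∧ Nat.card (norIn ⊤ A) = ε * (z * c) := by
    by_cases hall : ∀ h ∈ norIn ⊤ A, h ∈ A
    · refine ⟨1, Or.inl rfl, ?_⟩
      have : norIn ⊤ A = A := le_antisymm hall hAN
      rw [this, hc, one_mul]
    · push Not at hall
      obtain ⟨h₀, h₀N, h₀A⟩ := hall
      refine ⟨2, Or.inr rfl, ?_⟩
      rw [← hc]
      apply card_eq_two_mul hAN h₀N h₀A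
      intro b hb hbA
      have e1 := (hinv b hb).resolve_left hbA
      have e2 := (hinv h₀ h₀N).resolve_left h₀A
      refine mem_cenIn.2 ⟨mem_top _, ?_⟩
      show b * h₀ * x = x * (b * h₀)
      have e3 : h₀ * x = x⁻¹ * h₀ := by
        have := congrArg (· * h₀) e2
        simpa using this
      have e4 : b * x⁻¹ = x * b := by
        have h5 : b * x⁻¹ * b⁻¹ = x := by
          have := congrArg (·⁻¹) e1
          simpa [mul_assoc] using this
        have := congrArg (· * b) h5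
        simpa using this
      calc b * h₀ * x = b * (h₀ * x) := by group
        _ = b * (x⁻¹ * h₀) := by rw [e3]
        _ = (b * x⁻¹) * h₀ := by group
        _ = x * b * h₀ := by rw [e4]
        _ = x * (b * h₀) := by group
  obtain ⟨ε, hε1, hε2⟩ := hε
  refine ⟨c, ε, hc2, hε1, hc, hε2, ?_⟩
  have hU := card_Ucl_cenIn hCT (⊤ : Subgroup G) hxc
  rw [cenIn_inf_center hZ, ← hz] at hU
  change (Ucl ⊤ A).ncard * Nat.card (norIn ⊤ A) = Nat.card (⊤ : Subgroup G) * (Nat.card A - z) at hU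
  rw [hε2, hc, Subgroup.card_top] at hU
  have e : z * c - z = z * (c - 1) := by
    rw [Nat.mul_sub, mul_one]
  rw [e] at hU
  apply Nat.eq_of_mul_eq_mul_left hzpos
  calc z * ((Ucl ⊤ A).ncard * (ε * c)) = (Ucl ⊤ A).ncard * (ε * (z * c)) := by ring
    _ = Nat.card G * (z * (c - 1)) := hU
    _ = z * (Nat.card G * (c - 1)) := by ring

/-- a union of classes of noncentral elements -/
def Sat (T : Set G) : Prop := ∀ x ∈ T, x ∉ center G ∧ ucl x ⊆ T

theorem peel [Finite G] (hCT : CommTrans G) (hI : InvProp G) (T : Set G)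
    (hT : Sat T) (hne : T.ncard ≠ 0) :
    ∃ x ∈ T, ∃ d ε m : ℕ, 1 ≤ d ∧ (ε = 1 ∨ ε = 2) ∧ 1 ≤ m ∧
      Nat.card G = Nat.card (center G) * (ε * (d + 1) * m) ∧
      (ucl x).ncard = Nat.card (center G) * (m * d) ∧
      Nat.card (cen x) = Nat.card (center G) * (d + 1) ∧
      Nat.card (ncen x) = ε * (Nat.card (center G) * (d + 1)) ∧
      Sat (T \ ucl x) ∧
      (T \ ucl x).ncard + (ucl x).ncard = T.ncard := by
  obtain ⟨x, hx⟩ := (Set.ncard_pos (Set.toFinite T)).1 (Nat.pos_of_ne_zero hne)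
  obtain ⟨hxc, hxT⟩ := hT x hx
  obtain ⟨c, ε, hc, hε, hcard, hnor, hU⟩ := classData hCT hI hxc
  obtain ⟨d, rfl⟩ : ∃ d, c = d + 1 := ⟨c - 1, by omega⟩
  obtain ⟨m, hm⟩ : Nat.card (ncen x) ∣ Nat.card G := by
    have := card_dvd_of_le (norIn_le (⊤ : Subgroup G) (cen x))
    rwa [Subgroup.card_top] at this
  have hzpos : 0 < Nat.card (center G) := Nat.card_pos
  have hNpos : 0 < Nat.card G := Nat.card_pos
  have hεpos : 0 < ε := by rcases hε with rfl | rfl <;> norm_num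
  have hm1 : 1 ≤ m := by
    rcases Nat.eq_zero_or_pos m with rfl | h
    · simp at hm; omega
    · exact h
  rw [hnor] at hm
  refine ⟨x, hx, d, ε, m, by omega, hε, hm1, by rw [hm]; ring, ?_, hcard, hnor, ?_,
    Set.ncard_sdiff_add_ncard_of_subset hxT (Set.toFinite _)⟩
  · have h1 : (ucl x).ncard * (ε * (d + 1)) = Nat.card (center G) * (m * d) * (ε * (d + 1)) := by
      rw [hU, hm, Nat.add_sub_cancel]; ring
    exact Nat.eq_of_mul_eq_mul_right (by positivity) h1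
  · rintro y ⟨hyT, hyU⟩
    obtain ⟨hyc, hyT'⟩ := hT y hyT
    refine ⟨hyc, fun w hw => ⟨hyT' hw, fun hwU => ?_⟩⟩
    have hdisj := Ucl_cenIn_disjoint hCT hxc hyc (mem_top y) hyU
    exact (Set.disjoint_left.1 hdisj) hw hwU

/-- centraliser data of an element: `|C(y)| = z c`, `|N(C(y))| = ε z c` -/
def CD (c ε : ℕ) (y : G) : Prop :=
  Nat.card (cen y) = Nat.card (center G) * c ∧ Nat.card (ncen y) = ε * (Nat.card (center G) * c)

theorem CD_of_mem_ucl (hCT : CommTrans G) {c ε : ℕ} {x y : G} (hx : x ∉ center G)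
    (h : CD c ε x) (hy : y ∈ ucl x) : CD c ε y := by
  obtain ⟨h1, h2⟩ := card_of_mem_Ucl hCT hx hy
  exact ⟨h1.trans h.1, h2.trans h.2⟩

theorem excl_index_two [Finite G] (hCT : CommTrans G) (hI : InvProp G) {x y : G}
    (hxc : x ∉ center G) (hyc : y ∉ center G) (hyU : y ∉ ucl x)
    (hnx : Nat.card (ncen x) * 2 = Nat.card G)
    (hcy : Nat.card (cen y) = Nat.card (center G) * 3) : False := by
  have hZ : center G ≤ (⊤ : Subgroup G) := le_top
  set N2 := ncen x with hN2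
  have hidx : N2.index = 2 := by
    have h1 := N2.card_mul_index
    rw [← hnx] at h1
    exact Nat.eq_of_mul_eq_mul_left Nat.card_pos h1
  have hy2 : y ^ 2 ∈ N2 := Subgroup.sq_mem_of_index_two hidx y
  have hy3 : y ^ 3 ∈ center G :=
    pow_mem_of_card (center_le_cenIn hZ y) le_rfl hcy (self_mem_cenIn (mem_top y))
  have hZN : center G ≤ N2 := (center_le_cenIn hZ x).trans (le_norIn (cenIn_le _ _))
  have hyeq : y = y ^ 3 * (y ^ 2)⁻¹ := by group
  have hyN : y ∈ N2 := by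
    rw [hyeq]; exact N2.mul_mem (hZN hy3) (N2.inv_mem hy2)
  have hnot : y ∉ cen x := fun h => hyU (mem_Ucl_of_mem h hyc)
  rcases ncen_cen_or_inv hI hyN with h | h
  · exact hnot h
  · have hy2c : y ^ 2 ∉ center G := by
      intro h2
      apply hyc
      rw [hyeq]
      exact (center _).mul_mem hy3 ((center _).inv_mem h2)
    have hc2 : Commute x (y ^ 2) := by
      have h1 : y * x = x⁻¹ * y := by
        have := congrArg (· * y) h
        simpa using this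
      have h2 : y * x⁻¹ = x * y := by
        have e : y * x⁻¹ * y⁻¹ = x := by
          have := congrArg (·⁻¹) h
          simpa [mul_assoc] using this
        have := congrArg (· * y) e
        simpa using this
      show x * y ^ 2 = y ^ 2 * x
      calc x * y ^ 2 = (x * y) * y := by rw [pow_two, mul_assoc]
        _ = (y * x⁻¹) * y := by rw [h2]
        _ = y * (x⁻¹ * y) := by rw [mul_assoc]
        _ = y * (y * x) := by rw [h1]
        _ = y ^ 2 * x := by rw [pow_two, mul_assoc]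
    have hc3 : Commute y (y ^ 2) := (Commute.refl y).pow_right 2
    exact hnot (mem_cenIn.2 ⟨mem_top y, hCT _ _ _ hy2c hc3 hc2⟩)

theorem ar_24 {d₁ m₁ d₂ m₂ d₃ m₃ : ℕ} (h1 : 24 = 2 * (d₁ + 1) * m₁) (h2 : 24 = 2 * (d₂ + 1) * m₂)
    (h3 : 24 = 2 * (d₃ + 1) * m₃) (a : d₁ = 1 ∨ d₁ = 2 ∨ d₁ = 3) (b : d₂ = 1 ∨ d₂ = 2 ∨ d₂ = 3)
    (c : d₃ = 1 ∨ d₃ = 2 ∨ d₃ = 3) (e : 1 + m₁ * d₁ + m₂ * d₂ + m₃ * d₃ = 24) :
    d₁ = 3 ∨ d₂ = 3 ∨ d₃ = 3 := by
  rcases a with rfl | rfl | rfl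
  · rcases b with rfl | rfl | rfl
    · rcases c with rfl | rfl | rfl <;> omega
    · rcases c with rfl | rfl | rfl <;> omega
    · right; left; rfl
  · rcases b with rfl | rfl | rfl
    · rcases c with rfl | rfl | rfl <;> omega
    · rcases c with rfl | rfl | rfl <;> omega
    · right; left; rfl
  · left; rfl

set_option maxHeartbeats 1600000 in
/-- **The abstract class equation.** -/
theorem class_analysis [Finite G] (hCT : CommTrans G) (hI : InvProp G) :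
    (∀ x : G, x ∈ center G) ∨
    (∃ x : G, x ∉ center G ∧ Nat.card (ncen x) = Nat.card G) ∨
    (Nat.card G = Nat.card (center G) * 12 ∧ ∀ y : G, y ∉ center G → CD 2 2 y ∨ CD 3 1 y) ∨
    (Nat.card G = Nat.card (center G) * 24 ∧ (∃ x : G, x ∉ center G ∧ CD 4 2 x) ∧
      ∀ y : G, y ∉ center G → CD 2 2 y ∨ CD 3 2 y ∨ CD 4 2 y) ∨
    (Nat.card G = Nat.card (center G) * 60 ∧ ∀ y : G, y ∉ center G →
      CD 2 2 y ∨ CD 3 2 y ∨ CD 5 2 y) := by
  classical
  have hzpos : 0 < Nat.card (center G) := Nat.card_pos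
  set z := Nat.card (center G) with hzdef
  set T0 : Set G := (Set.univ : Set G) \ (center G : Set G) with hT0def
  have hT0card : T0.ncard + z = Nat.card G := by
    have hsub : (center G : Set G) ⊆ (Set.univ : Set G) := Set.subset_univ _
    have h1 := Set.ncard_sdiff_add_ncard_of_subset hsub (Set.toFinite _)
    have h2 : (Set.univ : Set G).ncard = Nat.card G := Set.ncard_univ G
    have h3 : ((center G : Subgroup G) : Set G).ncard = z := (Nat.card_coe_set_eq _).symm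
    rw [h2, h3] at h1
    exact h1
  have hT0sat : Sat T0 := by
    rintro x ⟨-, hxn⟩
    exact ⟨hxn, fun w hw => ⟨Set.mem_univ _, not_center_of_mem_Ucl hw⟩⟩
  have empty_of : ∀ {T : Set G}, T.ncard = 0 → T = ∅ :=
    fun {T} h => (Set.ncard_eq_zero (Set.toFinite T)).1 h
  by_cases h0 : T0.ncard = 0
  · left
    intro x
    by_contra hxc
    have : x ∈ T0 := ⟨Set.mem_univ _, hxc⟩
    rw [empty_of h0] at this
    exact this
  right
  obtain ⟨x₁, hx₁T, d₁, ε₁, m₁, hd₁, hε₁, hm₁, hN₁, hU₁, hc₁, hn₁, hsat₁, hcard₁⟩ :=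
    peel hCT hI T0 hT0sat h0
  rw [← hzdef] at hN₁ hU₁ hc₁ hn₁
  obtain ⟨hx₁s, -⟩ := hT0sat x₁ hx₁T
  set U₁ := ucl x₁ with hU₁def
  set T1 := T0 \ U₁ with hT1def
  set g := ε₁ * (d₁ + 1) * m₁ with hg
  have torus : ∀ {x : G} {ε d m : ℕ}, x ∉ center G →
      Nat.card G = z * (ε * (d + 1) * m) → Nat.card (ncen x) = ε * (z * (d + 1)) →
      m = 1 → ∃ x : G, x ∉ center G ∧ Nat.card (ncen x) = Nat.card G := by
    intro x ε d m hs hN hn hm
    refine ⟨x, hs, ?_⟩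
    rw [hn, hN, hm]; ring
  by_cases h1 : T1.ncard = 0
  · left
    have e : 1 + m₁ * d₁ = g := Nat.eq_of_mul_eq_mul_left hzpos (by linarith)
    exact torus hx₁s hN₁ hn₁ (ar_one hg hε₁ hd₁ hm₁ e)
  obtain ⟨x₂, hx₂T, d₂, ε₂, m₂, hd₂, hε₂, hm₂, hN₂, hU₂, hc₂, hn₂, hsat₂, hcard₂⟩ :=
    peel hCT hI T1 hsat₁ h1
  rw [← hzdef] at hN₂ hU₂ hc₂ hn₂
  obtain ⟨hx₂s, -⟩ := hsat₁ x₂ hx₂T
  set U₂ := ucl x₂ with hU₂def
  set T2 := T1 \ U₂ with hT2def
  have hg₂ : g = ε₂ * (d₂ + 1) * m₂ := Nat.eq_of_mul_eq_mul_left hzpos (hN₁.symm.trans hN₂)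
  have hCD₁ : CD (d₁ + 1) ε₁ x₁ := ⟨hc₁, hn₁⟩
  have hCD₂ : CD (d₂ + 1) ε₂ x₂ := ⟨hc₂, hn₂⟩
  by_cases h2 : T2.ncard = 0
  · have e : 1 + m₁ * d₁ + m₂ * d₂ = g := Nat.eq_of_mul_eq_mul_left hzpos (by linarith)
    have hcover : ∀ y : G, y ∉ center G → y ∈ U₁ ∨ y ∈ U₂ := by
      intro y hyc
      by_contra hcon
      push Not at hcon
      have : y ∈ T2 := ⟨⟨⟨Set.mem_univ _, hyc⟩, hcon.1⟩, hcon.2⟩
      rw [empty_of h2] at this
      exact this
    rcases ar_two hg hg₂ hε₁ hε₂ hd₁ hd₂ hm₁ hm₂ e with h | h | ⟨h12, h | h⟩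
    · left; exact torus hx₁s hN₁ hn₁ h
    · left; exact torus hx₂s hN₂ hn₂ h
    · right; left
      obtain ⟨rfl, rfl, rfl, rfl⟩ := h
      refine ⟨by rw [hN₁, h12], fun y hyc => ?_⟩
      rcases hcover y hyc with hu | hu
      · right; exact CD_of_mem_ucl hCT hx₁s hCD₁ hu
      · left; exact CD_of_mem_ucl hCT hx₂s hCD₂ hu
    · right; left
      obtain ⟨rfl, rfl, rfl, rfl⟩ := h
      refine ⟨by rw [hN₁, h12], fun y hyc => ?_⟩
      rcases hcover y hyc with hu | hu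
      · left; exact CD_of_mem_ucl hCT hx₁s hCD₁ hu
      · right; exact CD_of_mem_ucl hCT hx₂s hCD₂ hu
  obtain ⟨x₃, hx₃T, d₃, ε₃, m₃, hd₃, hε₃, hm₃, hN₃, hU₃, hc₃, hn₃, hsat₃, hcard₃⟩ :=
    peel hCT hI T2 hsat₂ h2
  rw [← hzdef] at hN₃ hU₃ hc₃ hn₃
  obtain ⟨hx₃s, -⟩ := hsat₂ x₃ hx₃T
  set U₃ := ucl x₃ with hU₃def
  set T3 := T2 \ U₃ with hT3def
  have hg₃ : g = ε₃ * (d₃ + 1) * m₃ := Nat.eq_of_mul_eq_mul_left hzpos (hN₁.symm.trans hN₃)
  have hCD₃ : CD (d₃ + 1) ε₃ x₃ := ⟨hc₃, hn₃⟩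
  have hle3 : 1 + m₁ * d₁ + m₂ * d₂ + m₃ * d₃ ≤ g := Nat.le_of_mul_le_mul_left (by linarith) hzpos
  -- all `ε` are `2`
  have he₁ : ε₁ = 2 := by
    rcases hε₁ with h | h
    · exfalso
      rw [h] at hg
      exact ar_three_eps hg hg₂ hg₃ hε₂ hε₃ hd₁ hd₂ hd₃ hle3
    · exact h
  have he₂ : ε₂ = 2 := by
    rcases hε₂ with h | h
    · exfalso
      rw [h] at hg₂
      exact ar_three_eps hg₂ hg hg₃ hε₁ hε₃ hd₂ hd₁ hd₃ (by omega)
    · exact h
  have he₃ : ε₃ = 2 := by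
    rcases hε₃ with h | h
    · exfalso
      rw [h] at hg₃
      exact ar_three_eps hg₃ hg hg₂ hε₁ hε₂ hd₃ hd₁ hd₂ (by omega)
    · exact h
  by_cases h3 : T3.ncard = 0
  · have e : 1 + m₁ * d₁ + m₂ * d₂ + m₃ * d₃ = g :=
      Nat.eq_of_mul_eq_mul_left hzpos (by linarith)
    have hcover : ∀ y : G, y ∉ center G → y ∈ U₁ ∨ y ∈ U₂ ∨ y ∈ U₃ := by
      intro y hyc
      by_contra hcon
      push Not at hcon
      have : y ∈ T3 := ⟨⟨⟨⟨Set.mem_univ _, hyc⟩, hcon.1⟩, hcon.2.1⟩, hcon.2.2⟩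
      rw [empty_of h3] at this
      exact this
    have hg' := hg
    rw [he₁] at hg' hCD₁ hn₁
    rw [he₂] at hg₂ hCD₂ hn₂
    rw [he₃] at hg₃ hCD₃ hn₃
    rcases ar_three hg' hg₂ hg₃ hd₁ hd₂ hd₃ hm₁ hm₂ hm₃ e with (h | h | h) | ⟨h12, h⟩ |
      ⟨h24, a, b, c⟩ | ⟨h60, a, b, c⟩
    · left; exact torus hx₁s hN₁ (by rw [he₁]; exact hn₁) h
    · left; exact torus hx₂s hN₂ (by rw [he₂]; exact hn₂) h
    · left; exact torus hx₃s hN₃ (by rw [he₃]; exact hn₃) h
    · exfalso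
      have hN12 : Nat.card G = z * 12 := by rw [hN₁, h12]
      rcases h with ⟨rfl, rfl⟩ | ⟨rfl, rfl⟩ | ⟨rfl, rfl⟩
      · exact excl_index_two hCT hI hx₁s hx₂s hx₂T.2
          (by rw [hn₁, hN12]; ring) hc₂
      · exact excl_index_two hCT hI hx₁s hx₃s hx₃T.1.2
          (by rw [hn₁, hN12]; ring) hc₃
      · exact excl_index_two hCT hI hx₂s hx₃s hx₃T.2
          (by rw [hn₂, hN12]; ring) hc₃
    · right; right; left
      refine ⟨by rw [hN₁, h24], ?_, fun y hyc => ?_⟩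
      · -- one of the three classes has `d = 3`
        have hex : d₁ = 3 ∨ d₂ = 3 ∨ d₃ = 3 := by
          rw [h24] at hg' hg₂ hg₃ e
          exact ar_24 hg' hg₂ hg₃ a b c e
        rcases hex with rfl | rfl | rfl
        · exact ⟨x₁, hx₁s, hCD₁⟩
        · exact ⟨x₂, hx₂s, hCD₂⟩
        · exact ⟨x₃, hx₃s, hCD₃⟩
      have conv : ∀ {d : ℕ} {x : G}, (d = 1 ∨ d = 2 ∨ d = 3) →
          CD (d + 1) 2 x → CD 2 2 x ∨ CD 3 2 x ∨ CD 4 2 x := by
        intro d x hd hx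
        rcases hd with rfl | rfl | rfl
        · left; exact hx
        · right; left; exact hx
        · right; right; exact hx
      rcases hcover y hyc with hu | hu | hu
      · exact conv a (CD_of_mem_ucl hCT hx₁s hCD₁ hu)
      · exact conv b (CD_of_mem_ucl hCT hx₂s hCD₂ hu)
      · exact conv c (CD_of_mem_ucl hCT hx₃s hCD₃ hu)
    · right; right; right
      refine ⟨by rw [hN₁, h60], fun y hyc => ?_⟩
      have conv : ∀ {d : ℕ} {x : G}, (d = 1 ∨ d = 2 ∨ d = 4) →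
          CD (d + 1) 2 x → CD 2 2 x ∨ CD 3 2 x ∨ CD 5 2 x := by
        intro d x hd hx
        rcases hd with rfl | rfl | rfl
        · left; exact hx
        · right; left; exact hx
        · right; right; exact hx
      rcases hcover y hyc with hu | hu | hu
      · exact conv a (CD_of_mem_ucl hCT hx₁s hCD₁ hu)
      · exact conv b (CD_of_mem_ucl hCT hx₂s hCD₂ hu)
      · exact conv c (CD_of_mem_ucl hCT hx₃s hCD₃ hu)
  · exfalso
    obtain ⟨x₄, hx₄T, d₄, ε₄, m₄, hd₄, hε₄, hm₄, hN₄, hU₄, hc₄, hn₄, hsat₄, hcard₄⟩ :=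
      peel hCT hI T3 hsat₃ h3
    rw [← hzdef] at hN₄ hU₄
    have hg₄ : g = ε₄ * (d₄ + 1) * m₄ := Nat.eq_of_mul_eq_mul_left hzpos (hN₁.symm.trans hN₄)
    have hle4 : 1 + m₁ * d₁ + m₂ * d₂ + m₃ * d₃ + m₄ * d₄ ≤ g :=
      Nat.le_of_mul_le_mul_left (by linarith) hzpos
    exact ar_four (ar_w_ge hg hε₁ hd₁) (ar_w_ge hg₂ hε₂ hd₂) (ar_w_ge hg₃ hε₃ hd₃)
      (ar_w_ge hg₄ hε₄ hd₄) hle4

end Cfsg.Agent.Lib.Helper38.Zass
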