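import Mathlib
import Cfsg.Agent.Lib.Helper38.ZassA1
import Cfsg.Agent.Lib.Helper38.ZassA2

set_option autoImplicit false
set_option linter.unusedSectionVars false
set_option linter.unusedVariables false

/-! Rung A of the Zassenhaus ladder. -/

namespace Cfsg.Agent.Lib.Helper38.Zass

open Subgroup Cfsg.Agent.Lib.Helper7

/-- A subgroup of index `3` in a group generated by elements of order `3` is normal. -/
theorem normal_of_index_three {G : Type*} [Group G] [Finite G]
    (hgen : Subgroup.closure {x : G | orderOf x = 3} = ⊤) (N : Subgroup G) (hN : N.index = 3) :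
    N.Normal := by
  classical
  have : Fintype (G ⧸ N) := Fintype.ofFinite _
  have hcard : Fintype.card (G ⧸ N) = 3 := by
    rw [← Nat.card_eq_fintype_card]; exact hN
  have : Nontrivial (G ⧸ N) := Fintype.one_lt_card_iff_nontrivial.mp (by omega)
  let φ : G →* Equiv.Perm (G ⧸ N) := MulAction.toPermHom G (G ⧸ N)
  have hsign : ∀ g : G, Equiv.Perm.sign (φ g) = 1 := by
    have hle : (⊤ : Subgroup G) ≤ (Equiv.Perm.sign.comp φ).ker := by
      rw [← hgen, Subgroup.closure_le]
      intro x hx
      have hx3 : x ^ 3 = 1 := by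
        have : orderOf x = 3 := hx
        rw [← this]; exact pow_orderOf_eq_one x
      show (Equiv.Perm.sign.comp φ) x = 1
      set u := (Equiv.Perm.sign.comp φ) x with hu
      have hu3 : u ^ 3 = 1 := by rw [hu, ← map_pow, hx3, map_one]
      have hu2 : u ^ 2 = 1 := by
        rcases Int.units_eq_one_or u with h | h <;> rw [h] <;> simp
      calc u = u ^ 3 * (u ^ 2)⁻¹ := by group
        _ = 1 := by rw [hu3, hu2]; simp
    intro g
    exact hle (mem_top g)
  have hrange : φ.range ≤ alternatingGroup (G ⧸ N) := by
    rintro _ ⟨g, rfl⟩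
    exact Equiv.Perm.mem_alternatingGroup.mpr (hsign g)
  have halt : Nat.card (alternatingGroup (G ⧸ N)) = 3 := by
    have h1 := two_mul_card_alternatingGroup (α := G ⧸ N)
    rw [Fintype.card_perm, hcard] at h1
    rw [Nat.card_eq_fintype_card]
    have : (3 : ℕ).factorial = 6 := rfl
    omega
  have hr3 : Nat.card φ.range ∣ 3 := halt ▸ Subgroup.card_dvd_of_le hrange
  have hker : φ.ker = N.normalCore := (Subgroup.normalCore_eq_ker N).symm
  have hkN : φ.ker ≤ N := hker ▸ Subgroup.normalCore_le N
  have h1 : Nat.card φ.ker * Nat.card φ.range = Nat.card G := by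
    rw [← Subgroup.index_ker]; exact Subgroup.card_mul_index _
  have h2 : Nat.card N * 3 = Nat.card G := by rw [← hN]; exact Subgroup.card_mul_index _
  have hle : Nat.card N ≤ Nat.card φ.ker := by
    have h3 : Nat.card φ.range ≤ 3 := Nat.le_of_dvd (by norm_num) hr3
    have hpos : 0 < Nat.card φ.ker := Nat.card_pos
    by_contra hlt
    push Not at hlt
    have : Nat.card φ.ker * Nat.card φ.range < Nat.card N * 3 := by
      calc Nat.card φ.ker * Nat.card φ.range ≤ Nat.card φ.ker * 3 := Nat.mul_le_mul_left _ h3
        _ < Nat.card N * 3 := Nat.mul_lt_mul_of_pos_right hlt (by norm_num)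
    omega
  have heq : φ.ker = N := Subgroup.eq_of_le_of_card_ge hkN hle
  rw [← heq]
  infer_instance

theorem QC {K W G : Type*} [Field K] [AddCommGroup W] [Module K W] [Nontrivial W] [Group G]
    [Finite G] (ρ : G →* Module.End K W)
    (hfree : ∀ g : G, g ≠ 1 → ∀ v : W, ρ g v = v → v = 0) (τ : G → K)
    (hτ : ∀ g : G, ρ g + ρ g⁻¹ = τ g • 1) (h2 : (2 : K) ≠ 0)
    (hgen : Subgroup.closure {x : G | orderOf x = 3} = ⊤) (hna : ¬ ∀ a b : G, a * b = b * a) :
    (Nat.card G = 24 ∨ Nat.card G = 120) ∧ ∀ g : G, g ^ 4 = 1 ∨ g ^ 6 = 1 ∨ g ^ 10 = 1 := by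
  classical
  have hinj := rho_injective ρ hfree
  -- elements of square one are central
  have hsqc : ∀ g : G, g * g = 1 → g ∈ center G := by
    intro g hg
    rcases sq_eq_one_cases ρ hfree hg with rfl | h
    · exact one_mem _
    · rw [mem_center_iff]
      intro x
      apply hinj
      rw [map_mul, map_mul, h]
      simp
  -- central elements have square one
  have hcsq : ∀ g : G, g ∈ center G → g * g = 1 := by
    intro g hg
    by_contra hne
    apply hna
    intro a b
    exact commute_of_commute ρ hfree τ hτ h2 hne (mem_center_iff.mp hg a) (mem_center_iff.mp hg b)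
  have huniq : ∀ g g' : G, g * g = 1 → g' * g' = 1 → g ≠ 1 → g' ≠ 1 → g = g' := by
    intro g g' hg hg' h1 h1'
    apply hinj
    rw [(sq_eq_one_cases ρ hfree hg).resolve_left h1, (sq_eq_one_cases ρ hfree hg').resolve_left h1']
  have hCT : CommTrans G := by
    intro g x y hg hx hy
    exact commute_of_commute ρ hfree τ hτ h2 (fun h => hg (hsqc g h)) hx hy
  have hI : InvProp G := fun g h hc => conj_cases ρ hfree τ hτ g h hc
  -- the centre has order two when the order is even
  have hz2 : 2 ∣ Nat.card G → Nat.card (center G) = 2 := by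
    intro hdvd
    obtain ⟨c, hc⟩ := exists_prime_orderOf_dvd_card' 2 hdvd
    have hcc : c * c = 1 := by
      rw [← pow_two, ← hc]; exact pow_orderOf_eq_one c
    have hc1 : c ≠ 1 := by
      intro h; rw [h, orderOf_one] at hc; omega
    have : center G = zpowers c := by
      apply le_antisymm
      · intro g hg
        by_cases hg1 : g = 1
        · rw [hg1]; exact one_mem _
        · rw [huniq g c (hcsq g hg) hcc hg1 hc1]; exact mem_zpowers c
      · rw [zpowers_le]; exact hsqc c hcc
    rw [this, Nat.card_zpowers, hc]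
  have hpow : ∀ (y : G) (n : ℕ), Nat.card (cen y) = n → y ^ n = 1 := by
    intro y n hn
    have h1 : (⟨y, self_mem_cenIn (mem_top y)⟩ : cen y) ^ Nat.card (cen y) = 1 := pow_card_eq_one'
    rw [hn] at h1
    have := congrArg Subtype.val h1
    simpa using this
  have hcen4 : ∀ y : G, y ∈ center G → y ^ 4 = 1 := by
    intro y hy
    have := hcsq y hy
    calc y ^ 4 = (y * y) * (y * y) := by simp only [pow_succ, pow_zero, one_mul, mul_assoc]
      _ = 1 := by rw [this, one_mul]
  rcases class_analysis hCT hI with h | ⟨x, hxc, hx⟩ | ⟨hc, hy⟩ | ⟨hc, ⟨x, hxc, hx⟩, hy⟩ | ⟨hc, hy⟩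
  · exfalso
    apply hna
    intro a b
    exact (mem_center_iff.mp (h a) b).symm
  · exfalso
    have htop : ncen x = ⊤ := by
      apply Subgroup.eq_top_of_card_eq _ hx
    apply hxc
    have hle : (⊤ : Subgroup G) ≤ cen x := by
      rw [← hgen, closure_le]
      intro y hy
      have hy3 : y ^ 3 = 1 := by
        have : orderOf y = 3 := hy
        rw [← this]; exact pow_orderOf_eq_one y
      have hyN : y ∈ ncen x := htop ▸ mem_top y
      rcases ncen_cen_or_inv hI hyN with h | h
      · exact h
      · -- y inverts x, so y ^ 2 centralizes x, and y = y ^ 4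
        have e1 : y * x⁻¹ * y⁻¹ = x := by
          have := congrArg (·⁻¹) h
          simpa [mul_assoc] using this
        have e2 : (y * y) * x * (y * y)⁻¹ = x := by
          calc (y * y) * x * (y * y)⁻¹ = y * (y * x * y⁻¹) * y⁻¹ := by group
            _ = x := by rw [h, e1]
        have e3 : Commute (y * y) x := by
          show y * y * x = x * (y * y)
          calc y * y * x = (y * y * x * (y * y)⁻¹) * (y * y) := by
                rw [inv_mul_cancel_right]
            _ = x * (y * y) := by rw [e2]
        have e4 : y = (y * y) * (y * y) := by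
          calc y = y ^ 3 * y := by rw [hy3, one_mul]
            _ = (y * y) * (y * y) := by simp only [pow_succ, pow_zero, one_mul, mul_assoc]
        refine mem_cenIn.2 ⟨mem_top y, ?_⟩
        rw [e4]
        exact e3.mul_left e3
    rw [mem_center_iff]
    intro g
    exact (mem_cenIn.1 (hle (mem_top g))).2
  · have hz : Nat.card (center G) = 2 := hz2 (by rw [hc]; exact ⟨Nat.card (center G) * 6, by ring⟩)
    rw [hz] at hc
    refine ⟨Or.inl hc, fun g => ?_⟩
    by_cases hg : g ∈ center G
    · left; exact hcen4 g hg
    · rcases hy g hg with h | h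
      · left; exact hpow g 4 (by rw [h.1, hz])
      · right; left; exact hpow g 6 (by rw [h.1, hz])
  · exfalso
    have hz : Nat.card (center G) = 2 := hz2 (by rw [hc]; exact ⟨Nat.card (center G) * 12, by ring⟩)
    rw [hz] at hc
    have hA : Nat.card (cen x) = 8 := by rw [hx.1, hz]
    have hN : Nat.card (ncen x) = 16 := by rw [hx.2, hz]
    have hidx : (ncen x).index = 3 := by
      have h1 := (ncen x).card_mul_index
      rw [hN, hc] at h1
      omega
    have hnorm : (ncen x).Normal := normal_of_index_three hgen _ hidx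
    have hU := card_Ucl_cenIn hCT (⊤ : Subgroup G) hxc
    rw [cenIn_inf_center le_top, hz, Subgroup.card_top, hc] at hU
    change (ucl x).ncard * Nat.card (ncen x) = 2 * 24 * (Nat.card (cen x) - 2) at hU
    rw [hN, hA] at hU
    have hU18 : (ucl x).ncard = 18 := by omega
    have hsub : ucl x ⊆ (ncen x : Set G) := by
      rintro _ ⟨h, -, a, ha, -, rfl⟩
      exact hnorm.conj_mem a (le_norIn (cenIn_le _ _) ha) h
    have hle := Set.ncard_le_ncard hsub (Set.toFinite _)
    have h16 : ((ncen x : Subgroup G) : Set G).ncard = 16 := by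
      rw [← hN]; exact (Nat.card_coe_set_eq _).symm
    omega
  · have hz : Nat.card (center G) = 2 := hz2 (by rw [hc]; exact ⟨Nat.card (center G) * 30, by ring⟩)
    rw [hz] at hc
    refine ⟨Or.inr hc, fun g => ?_⟩
    by_cases hg : g ∈ center G
    · left; exact hcen4 g hg
    · rcases hy g hg with h | h | h
      · left; exact hpow g 4 (by rw [h.1, hz])
      · right; left; exact hpow g 6 (by rw [h.1, hz])
      · right; right; exact hpow g 10 (by rw [h.1, hz])

end Cfsg.Agent.Lib.Helper38.Zass
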