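import Mathlib
import Cfsg.Agent.Lib.Helper26.StronglyEmbedded

set_option autoImplicit false

namespace Cfsg.Agent.Lib.Helper38

open Cfsg.Agent.Lib.Helper26

/-- A finite set with a fixed-point-free involution has even cardinality. -/
theorem even_card_of_involution {α : Type*} (s : Finset α) (g : α → α)
    (hmem : ∀ a ∈ s, g a ∈ s) (hinv : ∀ a ∈ s, g (g a) = a) (hne : ∀ a ∈ s, g a ≠ a) :
    Even s.card := by
  have h := Finset.sum_involution (s := s) (f := fun _ => (1 : ZMod 2)) (fun a _ => g a)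
    (fun a ha => by decide) (fun a ha _ => hne a ha) hmem (fun a ha => hinv a ha)
  simp only [Finset.sum_const, nsmul_eq_mul, mul_one] at h
  exact (ZMod.natCast_eq_zero_iff_even).mp h

/-- A finite set with an involution having exactly one fixed point has odd cardinality. -/
theorem odd_card_of_involution {α : Type*} [DecidableEq α] (s : Finset α) (g : α → α) (a0 : α)
    (ha0 : a0 ∈ s) (hfix : g a0 = a0)
    (hmem : ∀ a ∈ s, g a ∈ s) (hinv : ∀ a ∈ s, g (g a) = a) (hne : ∀ a ∈ s, g a = a → a = a0) :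
    Odd s.card := by
  have h : Even (s.erase a0).card := by
    apply even_card_of_involution _ g
    · intro a ha
      rw [Finset.mem_erase] at ha ⊢
      refine ⟨fun h => ha.1 ?_, hmem a ha.2⟩
      have := hinv a ha.2
      rw [h, hfix] at this
      exact this.symm
    · intro a ha; exact hinv a (Finset.mem_of_mem_erase ha)
    · intro a ha h
      rw [Finset.mem_erase] at ha
      exact ha.1 (hne a ha.2 h)
  rw [Finset.card_erase_of_mem ha0] at h
  have hpos : 0 < s.card := Finset.card_pos.mpr ⟨a0, ha0⟩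
  obtain ⟨k, hk⟩ := h
  exact ⟨k, by omega⟩

theorem card_isConj_eq_index {G : Type*} [Group G] (c : G) :
    Nat.card {g // IsConj c g} = (Subgroup.centralizer ({c} : Set G)).index := by
  have h2 : Subgroup.centralizer ({c} : Set G) =
      (MulAction.stabilizer (ConjAct G) c).comap (ConjAct.toConjAct (G := G)).toMonoidHom := by
    ext x
    simp only [Subgroup.mem_centralizer_iff, Set.mem_singleton_iff, forall_eq, Subgroup.mem_comap,
      MulAction.mem_stabilizer_iff, ConjAct.smul_def]
    simp only [MulEquiv.toMonoidHom_eq_coe, MonoidHom.coe_coe, ConjAct.ofConjAct_toConjAct]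
    rw [mul_inv_eq_iff_eq_mul, eq_comm]
  rw [h2, Subgroup.index_comap_of_surjective _ (ConjAct.toConjAct (G := G)).surjective,
    MulAction.index_stabilizer, ← Nat.card_coe_set_eq]
  apply Nat.card_congr
  apply Equiv.subtypeEquivRight
  intro g
  rw [ConjAct.mem_orbit_conjAct]
  exact ⟨IsConj.symm, IsConj.symm⟩

/-- In a dihedral configuration: `(d e)^i d (d e)^(-i) = (d e)^(2 i) d`. -/
theorem dih_conj_pow {G : Type*} [Group G] (d e : G) (hd : d * d = 1) (he : e * e = 1) (i : ℕ) :
    (d * e) ^ i * d * ((d * e) ^ i)⁻¹ = (d * e) ^ (2 * i) * d := by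
  have hdinv : d⁻¹ = d := inv_eq_of_mul_eq_one_left hd
  have heinv : e⁻¹ = e := inv_eq_of_mul_eq_one_left he
  have hsc : SemiconjBy d (d * e) (d * e)⁻¹ := by
    unfold SemiconjBy
    rw [mul_inv_rev, hdinv, heinv, ← mul_assoc, hd, one_mul, mul_assoc, hd, mul_one]
  have h1 : d * (d * e) ^ i = ((d * e) ^ i)⁻¹ * d := by
    have := (hsc.pow_right i).eq
    rwa [inv_pow] at this
  have h2 : d * ((d * e) ^ i)⁻¹ = (d * e) ^ i * d := by
    calc d * ((d * e) ^ i)⁻¹ = (d * e) ^ i * (((d * e) ^ i)⁻¹ * d) * ((d * e) ^ i)⁻¹ := by group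
      _ = (d * e) ^ i * (d * (d * e) ^ i) * ((d * e) ^ i)⁻¹ := by rw [h1]
      _ = (d * e) ^ i * d := by group
  rw [mul_assoc, h2, ← mul_assoc, ← pow_add, two_mul]

/-- Elements of odd order with equal squares are equal. -/
theorem eq_of_sq_eq_of_odd {G : Type*} [Group G] {a b : G} (ha : Odd (orderOf a))
    (hb : Odd (orderOf b)) (h : a ^ 2 = b ^ 2) : a = b := by
  have h1 : orderOf (a ^ 2) = orderOf a :=
    Nat.Coprime.orderOf_pow (Nat.coprime_two_right.mpr ha)
  have h2 : orderOf (b ^ 2) = orderOf b :=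
    Nat.Coprime.orderOf_pow (Nat.coprime_two_right.mpr hb)
  have h3 : orderOf a = orderOf b := by rw [← h1, ← h2, h]
  obtain ⟨k, hk⟩ := ha
  have ea : a = (a ^ 2) ^ (k + 1) := by
    rw [← pow_mul]
    have : 2 * (k + 1) = orderOf a + 1 := by omega
    rw [this, pow_succ, pow_orderOf_eq_one, one_mul]
  have eb : b = (b ^ 2) ^ (k + 1) := by
    rw [← pow_mul]
    have : 2 * (k + 1) = orderOf b + 1 := by omega
    rw [this, pow_succ, pow_orderOf_eq_one, one_mul]
  rw [ea, eb, h]

/-- Two involutions `d`, `e` whose product has odd order: some conjugate `f` of `d` (an involution)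
satisfies `f d f⁻¹ = e`. -/
theorem exists_conj_invol_of_odd {G : Type*} [Group G] (d e : G) (hd : d * d = 1) (he : e * e = 1)
    (hodd : Odd (orderOf (d * e))) :
    ∃ y : G, (y * d * y⁻¹) * d * (y * d * y⁻¹)⁻¹ = e := by
  obtain ⟨i, hi⟩ := hodd
  refine ⟨(d * e) ^ (i * (i + 1)), ?_⟩
  rw [dih_conj_pow d e hd he]
  have h1 : (d * e) ^ (2 * (i * (i + 1))) = (d * e) ^ i := by
    have : 2 * (i * (i + 1)) = orderOf (d * e) * i + i := by rw [hi]; ring
    rw [this, pow_add, pow_mul, pow_orderOf_eq_one, one_pow, one_mul]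
  rw [h1]
  exact (dihedral_conj d e hd he i (by rw [← hi, pow_orderOf_eq_one])).2

end Cfsg.Agent.Lib.Helper38
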