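import Cfsg.Agent.Lib.Helper77.Asch.Defs
import Cfsg.Agent.Lib.Helper77.Asch.CL1

/-! Abstract collection lemma: an irreducible group permuting an independent family of subspaces. -/

set_option autoImplicit false

namespace Cfsg.Agent.Lib.Helper38.AschColl

open Cfsg Cfsg.Geo Cfsg.Agent.Lib.Helper77.Asch
open scoped MatrixGroups Matrix

variable {n : ℕ} {F : Type*} [Field F]

theorem coll_step (H : Subgroup (GL (Fin n) F)) (hH : ActsIrreducibly (matrixSet H))
    {ι : Type*} (X : ι → Submodule F (Fin n → F))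
    (hact : ∀ h ∈ H, ∀ i, ∃ j, (X i).map (cl1T h) = X j) (i₀ : ι) (h0 : X i₀ ≠ ⊥)
    (s : Finset ι) (hs : (⨆ i ∈ s, X i) ≠ ⊤) :
    ∃ j : ι, j ∉ s ∧ Module.finrank F (X j) = Module.finrank F (X i₀) := by
  classical
  by_contra hcon
  push Not at hcon
  let S : Submodule F (Fin n → F) := ⨆ h : H, (X i₀).map (cl1T (h : GL (Fin n) F))
  have hSinv : cl1Inv H S := by
    intro g hg w hw
    induction hw using Submodule.iSup_induction' with
    | mem h x hx =>
      obtain ⟨y, hy, rfl⟩ := hx
      rw [← cl1T_mul]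
      exact Submodule.mem_iSup_of_mem (⟨g * h, H.mul_mem hg h.2⟩ : H) ⟨y, hy, rfl⟩
    | zero => rw [map_zero]; exact Submodule.zero_mem _
    | add x y _ _ hx hy => rw [map_add]; exact Submodule.add_mem _ hx hy
  have hWS : X i₀ ≤ S := by
    intro w hw
    exact Submodule.mem_iSup_of_mem (1 : H) ⟨w, hw, cl1T_one w⟩
  rcases (cl1_irr_iff H).mp hH S hSinv with h2 | h2
  · apply h0
    rw [eq_bot_iff, ← h2]
    exact hWS
  · apply hs
    rw [eq_top_iff, ← h2]
    refine iSup_le fun h => ?_
    obtain ⟨j, hj⟩ := hact h h.2 i₀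
    rw [hj]
    have hmem : j ∈ s := by
      by_contra hnot
      apply hcon j hnot
      rw [← hj, cl1_finrank_map]
    exact le_iSup₂_of_le j hmem le_rfl

theorem coll_collect (H : Subgroup (GL (Fin n) F)) (hH : ActsIrreducibly (matrixSet H))
    {ι : Type*} (X : ι → Submodule F (Fin n → F)) (hind : iSupIndep X)
    (hact : ∀ h ∈ H, ∀ i, ∃ j, (X i).map (cl1T h) = X j) (i₀ : ι) (h0 : X i₀ ≠ ⊥) :
    ∃ s : Finset ι, (∀ i ∈ s, Module.finrank F (X i) = Module.finrank F (X i₀)) ∧
      (⨆ i ∈ s, X i) = ⊤ ∧ s.card * Module.finrank F (X i₀) = n := by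
  classical
  have hm : 0 < Module.finrank F (X i₀) := by
    rw [Module.finrank_pos_iff, Submodule.nontrivial_iff_ne_bot]
    exact h0
  have key : ∀ j : ℕ, ∃ s : Finset ι,
      (∀ i ∈ s, Module.finrank F (X i) = Module.finrank F (X i₀)) ∧
      Module.finrank F (⨆ i ∈ s, X i : Submodule F (Fin n → F)) =
        s.card * Module.finrank F (X i₀) ∧
      (s.card = j ∨ (⨆ i ∈ s, X i) = ⊤) := by
    intro j
    induction j with
    | zero => exact ⟨∅, by simp, by simp, Or.inl rfl⟩
    | succ j ih =>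
      obtain ⟨s, hs1, hs2, hs3⟩ := ih
      by_cases htop : (⨆ i ∈ s, X i) = ⊤
      · exact ⟨s, hs1, hs2, Or.inr htop⟩
      have hcard : s.card = j := hs3.resolve_right htop
      obtain ⟨i', hi', hfr⟩ := coll_step H hH X hact i₀ h0 s htop
      refine ⟨insert i' s, ?_, ?_, Or.inl ?_⟩
      · intro i hi
        rcases Finset.mem_insert.mp hi with rfl | hi
        · exact hfr
        · exact hs1 i hi
      · rw [Finset.iSup_insert, Finset.card_insert_of_notMem hi']
        have hdisj : Disjoint (X i') (⨆ i ∈ (s : Set ι), X i) :=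
          hind.disjoint_biSup (by simpa using hi')
        have hinf : X i' ⊓ (⨆ i ∈ s, X i) = ⊥ := by
          have := hdisj.eq_bot
          simpa using this
        have h5 := Submodule.finrank_sup_add_finrank_inf_eq (X i') (⨆ i ∈ s, X i)
        rw [hinf, finrank_bot, add_zero, hs2, hfr] at h5
        rw [h5]
        ring
      · rw [Finset.card_insert_of_notMem hi', hcard]
  obtain ⟨s, hs1, hs2, hs3⟩ := key (n + 1)
  have hle : Module.finrank F (⨆ i ∈ s, X i : Submodule F (Fin n → F)) ≤ n := by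
    have := Submodule.finrank_le (⨆ i ∈ s, X i : Submodule F (Fin n → F))
    rwa [Module.finrank_fin_fun] at this
  have htop : (⨆ i ∈ s, X i) = ⊤ := by
    rcases hs3 with h | h
    · exfalso
      rw [hs2, h] at hle
      have h2 : n + 1 ≤ (n + 1) * Module.finrank F (X i₀) := Nat.le_mul_of_pos_right _ hm
      omega
    · exact h
  refine ⟨s, hs1, htop, ?_⟩
  rw [← hs2, htop, finrank_top, Module.finrank_fin_fun]

/-- COLL: an irreducible group permuting an independent family of subspaces: either the family is trivial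
(`X i₀ = ⊤`) or the group stabilises an `m`-decomposition. -/
theorem coll (H : Subgroup (GL (Fin n) F)) (hH : ActsIrreducibly (matrixSet H))
    {ι : Type*} (X : ι → Submodule F (Fin n → F)) (hind : iSupIndep X)
    (hact : ∀ h ∈ H, ∀ i, ∃ j, (X i).map (cl1T h) = X j) (i₀ : ι) (h0 : X i₀ ≠ ⊥) :
    X i₀ = ⊤ ∨ ∃ (t m : ℕ) (D : Fin t → Submodule F (Fin n → F)),
      t * m = n ∧ IsMDecomposition m D ∧ H ≤ decompositionStabilizer D ∧ ∃ a, D a = X i₀ := by
  classical
  obtain ⟨s, hs1, hs2, hs3⟩ := coll_collect H hH X hind hact i₀ h0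
  have hm : 0 < Module.finrank F (X i₀) := by
    rw [Module.finrank_pos_iff, Submodule.nontrivial_iff_ne_bot]
    exact h0
  have hne : ∀ i ∈ s, X i ≠ ⊥ := by
    intro i hi hbot
    have := hs1 i hi
    rw [hbot, finrank_bot] at this
    omega
  have hmem_of_ne : ∀ j, X j ≠ ⊥ → j ∈ s := by
    intro j hj
    by_contra hnot
    have hdisj : Disjoint (X j) (⨆ i ∈ (s : Set ι), X i) := hind.disjoint_biSup (by simpa using hnot)
    have h3 : (⨆ i ∈ (s : Set ι), X i) = ⊤ := by simpa using hs2
    rw [h3, disjoint_top] at hdisj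
    exact hj hdisj
  have hi₀ : i₀ ∈ s := hmem_of_ne i₀ h0
  by_cases h1 : s.card = 1
  · left
    obtain ⟨i, rfl⟩ := Finset.card_eq_one.mp h1
    have : i₀ = i := by simpa using hi₀
    subst this
    simpa using hs2
  right
  have hpos : 0 < s.card := Finset.card_pos.mpr ⟨i₀, hi₀⟩
  let e : Fin s.card ≃ s := (Finset.equivFinOfCardEq rfl).symm
  refine ⟨s.card, Module.finrank F (X i₀), fun a => X (e a : ι), hs3, ?_, ?_, e.symm ⟨i₀, hi₀⟩, by simp⟩
  · refine ⟨by omega, hm, ?_, ?_, ?_⟩
    · intro a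
      exact hs1 _ (e a).2
    · exact hind.comp (f := fun a => (e a : ι)) (fun a b hab => e.injective (Subtype.ext hab))
    · rw [eq_top_iff, ← hs2]
      refine iSup₂_le fun i hi => ?_
      refine le_iSup_of_le (e.symm ⟨i, hi⟩) ?_
      simp
  · intro g hg
    have hex : ∀ i : s, ∃ j : s, (X (i : ι)).map (cl1T g) = X (j : ι) := by
      intro i
      obtain ⟨j, hj⟩ := hact g hg i
      have hjne : X j ≠ ⊥ := by
        rw [← hj]
        intro hbot
        have h4 := cl1_finrank_map (X (i : ι)) g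
        rw [hbot, finrank_bot, hs1 _ i.2] at h4
        omega
      exact ⟨⟨j, hmem_of_ne j hjne⟩, hj⟩
    choose φ hφ using hex
    have hφinj : Function.Injective φ := by
      intro i i' h
      have h5 : (X (i : ι)).map (cl1T g) = (X (i' : ι)).map (cl1T g) := by rw [hφ, hφ, h]
      have h6 : X (i : ι) = X (i' : ι) := Submodule.map_injective_of_injective (cl1T_injective g) h5
      apply Subtype.ext
      exact hind.injOn (hne _ i.2) (hne _ i'.2) h6
    have hφbij : Function.Bijective φ := Finite.injective_iff_bijective.mp hφinj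
    refine ⟨(e.trans (Equiv.ofBijective φ hφbij)).trans e.symm, ?_⟩
    intro a
    simp only [Equiv.trans_apply, Equiv.apply_symm_apply, Equiv.ofBijective_apply]
    exact hφ (e a)

end Cfsg.Agent.Lib.Helper38.AschColl
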