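import Mathlib
import Cfsg.Agent.Lib.Helper41.MinNonab
import Cfsg.Agent.Lib.Helper61.ZassMain

set_option autoImplicit false
set_option linter.unusedVariables false

/-! The minimal non-abelian normal subgroup centralising a maximal abelian normal subgroup, in a
group with a free representation (no solubility assumption). -/

namespace Cfsg.Agent.Lib.Helper38.Z86

open Subgroup Cfsg.Agent.Lib.Helper61.Zass Cfsg.Agent.Lib.Helper41
open scoped commutatorElement

variable {H : Type*} [Group H] [Finite H]

theorem min_nonabelian_q8_of_ne (hFR : HasFreeRep H)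
    (A : Subgroup H) (hAn : A.Normal) (hAc : IsMulCommutative A)
    (hAmax : ∀ B : Subgroup H, B.Normal → IsMulCommutative B → A ≤ B → B = A)
    (N : Subgroup H) (hNn : N.Normal) (hNle : N ≤ centralizer (A : Set H))
    (hNna : ¬ IsMulCommutative N)
    (hNmin : ∀ M : Subgroup H, M.Normal → M ≤ N → ¬ IsMulCommutative M → M = N)
    (hne : ⁅N, N⁆ ≠ N) :
    Nonempty (N ≃* QuaternionGroup 2) := by
  have hcp := central_of_proper A hAn hAc hAmax N hNle hNmin
  have hder : ∀ m ∈ ⁅N, N⁆, ∀ n ∈ N, m * n = n * m :=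
    hcp ⁅N, N⁆ inferInstance (commutator_le_left N N) hne
  have hnil : Group.IsNilpotent N := by
    rw [isNilpotent_iff_lowerCentralSeries]
    refine ⟨2, ?_⟩
    rw [Subgroup.lowerCentralSeries_succ, Subgroup.lowerCentralSeries_succ,
      Subgroup.lowerCentralSeries_zero, commutator_eq_bot_iff_le_centralizer]
    intro m hm
    rw [mem_centralizer_iff]
    intro n hn
    exact (hder m hm n hn).symm
  have hcen : (center N).index ≠ 1 := by
    intro h1
    rw [index_eq_one] at h1
    apply hNna
    refine ⟨⟨fun a b => ?_⟩⟩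
    have : b ∈ center N := h1 ▸ mem_top b
    exact mem_center_iff.mp this a
  obtain ⟨q, hq, hqd⟩ := Nat.exists_prime_and_dvd hcen
  have : Fact q.Prime := ⟨hq⟩
  obtain ⟨P⟩ : Nonempty (Sylow q N) := inferInstance
  have hPn : (P : Subgroup N).Normal := inferInstance
  have hPc : (P : Subgroup N).Characteristic := P.characteristic_of_normal hPn
  have hPH : ((P : Subgroup N).map N.subtype).Normal := inferInstance
  have hPtop : (P : Subgroup N).map N.subtype = N := by
    by_contra hne
    have h1 := hcp _ hPH (map_subtype_le _) hne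
    have h2 : (P : Subgroup N) ≤ center N := by
      intro x hx
      rw [mem_center_iff]
      intro y
      exact Subtype.ext (h1 x ⟨x, hx, rfl⟩ y y.2).symm
    exact P.not_dvd_index (hqd.trans (index_dvd_of_le h2))
  have hpg : IsPGroup q N := by
    intro g
    have hg : (g : H) ∈ (P : Subgroup N).map N.subtype := by rw [hPtop]; exact g.2
    obtain ⟨g', hg', hgg⟩ := hg
    have : g' = g := Subtype.ext hgg
    subst this
    obtain ⟨k, hk⟩ := P.isPGroup' ⟨g', hg'⟩
    exact ⟨k, congrArg Subtype.val hk⟩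
  rcases Cfsg.Agent.Lib.Helper38.Zass.pgroup_structure (hFR.subgroup N) q hpg with hc | ⟨n, ⟨e⟩⟩
  · exfalso
    apply hNna
    obtain ⟨g, hg⟩ := hc
    refine ⟨⟨fun a b => ?_⟩⟩
    obtain ⟨k, rfl⟩ := mem_zpowers_iff.mp (hg a)
    obtain ⟨l, rfl⟩ := mem_zpowers_iff.mp (hg b)
    rw [← zpow_add, ← zpow_add, add_comm]
  have hn1 : n ≤ 1 := by
    apply quaternion_class_two
    intro x y w
    have h1 : ((⁅e.symm x, e.symm y⁆ : N) : H) ∈ ⁅N, N⁆ := by
      have : ((⁅e.symm x, e.symm y⁆ : N) : H) = ⁅((e.symm x : N) : H), ((e.symm y : N) : H)⁆ := by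
        simp [commutatorElement_def]
      rw [this]
      exact commutator_mem_commutator (e.symm x).2 (e.symm y).2
    have h2 : (⁅e.symm x, e.symm y⁆ : N) * e.symm w = e.symm w * ⁅e.symm x, e.symm y⁆ :=
      Subtype.ext (hder _ h1 _ (e.symm w).2)
    have h3 := congrArg e h2
    simpa [commutatorElement_def] using h3
  have hn0 : n ≠ 0 := by
    rintro rfl
    apply hNna
    have hc : IsCyclic (QuaternionGroup (2 ^ 0)) := QuaternionGroup.quaternionGroup_one_isCyclic
    obtain ⟨g, hg⟩ := hc
    refine ⟨⟨fun a b => ?_⟩⟩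
    apply e.injective
    rw [map_mul, map_mul]
    obtain ⟨k, hk⟩ := mem_zpowers_iff.mp (hg (e a))
    obtain ⟨l, hl⟩ := mem_zpowers_iff.mp (hg (e b))
    rw [← hk, ← hl, ← zpow_add, ← zpow_add, add_comm]
  have : n = 1 := by omega
  subst this
  exact ⟨e⟩

theorem min_nonabelian_cases (hFR : HasFreeRep H)
    (A : Subgroup H) (hAn : A.Normal) (hAc : IsMulCommutative A)
    (hAmax : ∀ B : Subgroup H, B.Normal → IsMulCommutative B → A ≤ B → B = A)
    (N : Subgroup H) (hNn : N.Normal) (hNle : N ≤ centralizer (A : Set H))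
    (hNna : ¬ IsMulCommutative N)
    (hNmin : ∀ M : Subgroup H, M.Normal → M ≤ N → ¬ IsMulCommutative M → M = N) :
    Nonempty (N ≃* QuaternionGroup 2) ∨
      Nonempty (N ≃* Matrix.SpecialLinearGroup (Fin 2) (ZMod 5)) := by
  by_cases hne : ⁅N, N⁆ = N
  · right
    have hnt : Nontrivial N := by
      by_contra hcon
      rw [not_nontrivial_iff_subsingleton] at hcon
      exact hNna ⟨⟨fun a b => Subsingleton.elim _ _⟩⟩
    apply perfect_iso (hFR.subgroup N)
    apply Subgroup.map_injective N.subtype_injective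
    rw [commutator_def, Subgroup.map_commutator, ← MonoidHom.range_eq_map, Subgroup.range_subtype,
      hne]
  · left
    exact min_nonabelian_q8_of_ne hFR A hAn hAc hAmax N hNn hNle hNna hNmin hne

end Cfsg.Agent.Lib.Helper38.Z86
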