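import Mathlib
import Cfsg.Prelude.Def_Transfer

/-!
# A generalized Thompson transfer lemma via the sign of a coset action

`sgn U : H →* ℤˣ` is the sign of the permutation action of `H` on `H ⧸ U`.
If `x` has order dividing `2 ^ (k+1)`, `U` has index `2 ^ (k+1) * odd` and `x ^ 2 ^ k` is not
conjugate into `U`, then `sgn U x = -1`.  Iterating: `pow_not_mem_pResidual`.
-/

set_option autoImplicit false

namespace Cfsg.Agent.Lib.Helper38

open Equiv.Perm in
/-- A permutation of `2 ^ (k+1) * m` points (`m` odd) with `σ ^ 2 ^ (k+1) = 1` such that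
`σ ^ 2 ^ k` has no fixed point is odd. -/
theorem sign_eq_neg_one_of_semiregular {α : Type*} [DecidableEq α] [Fintype α]
    (σ : Equiv.Perm α) (k m : ℕ) (h2 : σ ^ 2 ^ (k + 1) = 1) (hfix : ∀ a, (σ ^ 2 ^ k) a ≠ a)
    (hm : Odd m) (hcard : Fintype.card α = 2 ^ (k + 1) * m) : Equiv.Perm.sign σ = -1 := by
  have hsupp : σ.support = Finset.univ := by
    ext a
    simp only [mem_support, Finset.mem_univ, iff_true]
    intro h
    exact hfix a (pow_apply_eq_self_of_apply_eq_self h _)
  have hsum : σ.cycleType.sum = 2 ^ (k + 1) * m := by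
    rw [sum_cycleType, hsupp, Finset.card_univ, hcard]
  have hall : ∀ b ∈ σ.cycleType, b = 2 ^ (k + 1) := by
    intro b hb
    have h1 : b ∣ 2 ^ (k + 1) := (dvd_of_mem_cycleType hb).trans (orderOf_dvd_of_pow_eq_one h2)
    obtain ⟨i, hi, rfl⟩ := (Nat.dvd_prime_pow Nat.prime_two).mp h1
    by_contra hne
    have hik : i ≤ k := by
      rcases Nat.lt_or_ge k i with h | h
      · exfalso; apply hne
        have : i = k + 1 := by omega
        rw [this]
      · exact h
    obtain ⟨c, τ, hσ, hdisj, hcyc, hcardc⟩ := (mem_cycleType_iff).mp hb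
    have hc : c ^ 2 ^ i = 1 := by
      rw [← hcardc, ← hcyc.orderOf]; exact pow_orderOf_eq_one c
    obtain ⟨a, ha, -⟩ := hcyc
    have hck : c ^ 2 ^ k = 1 := by
      obtain ⟨j, rfl⟩ := Nat.exists_eq_add_of_le hik
      rw [pow_add, pow_mul, hc, one_pow]
    have hτa : τ a = a := by
      rcases hdisj a with h | h
      · exact absurd h ha
      · exact h
    apply hfix a
    rw [hσ, hdisj.commute.mul_pow, hck, one_mul]
    exact pow_apply_eq_self_of_apply_eq_self hτa _
  have hrep : σ.cycleType = Multiset.replicate (Multiset.card σ.cycleType) (2 ^ (k + 1)) :=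
    Multiset.eq_replicate.mpr ⟨rfl, hall⟩
  have hk : Multiset.card σ.cycleType = m := by
    rw [hrep, Multiset.sum_replicate, smul_eq_mul, mul_comm] at hsum
    exact Nat.eq_of_mul_eq_mul_left (by positivity) hsum
  rw [sign_of_cycleType, hsum, hk]
  have : Odd (2 ^ (k + 1) * m + m) := by
    apply Even.add_odd _ hm
    rw [pow_succ, mul_assoc, mul_comm 2, ← mul_assoc]
    exact even_two.mul_left _
  exact this.neg_one_pow

/-- The sign of the action of `H` on the cosets of `U`. -/
noncomputable def sgn {H : Type*} [Group H] [Finite H] (U : Subgroup H) : H →* ℤˣ := by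
  classical
  exact letI := Fintype.ofFinite (H ⧸ U)
    Equiv.Perm.sign.comp (MulAction.toPermHom H (H ⧸ U))

/-- **Generalized Thompson transfer**. -/
theorem sgn_eq_neg_one {H : Type*} [Group H] [Finite H] (U : Subgroup H) (x : H) (k m : ℕ)
    (hx : x ^ 2 ^ (k + 1) = 1) (hm : Odd m) (hidx : U.index = 2 ^ (k + 1) * m)
    (hconj : ∀ g : H, g * x ^ 2 ^ k * g⁻¹ ∉ U) : sgn U x = -1 := by
  classical
  let _ := Fintype.ofFinite (H ⧸ U)
  have : sgn U x = Equiv.Perm.sign (MulAction.toPermHom H (H ⧸ U) x) := by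
    unfold sgn
    simp only [MonoidHom.comp_apply]
  rw [this]
  apply sign_eq_neg_one_of_semiregular _ k m _ _ hm
  · rw [← hidx, Subgroup.index, Nat.card_eq_fintype_card]
  · rw [← map_pow, hx, map_one]
  · intro a
    rw [← map_pow]
    induction a using QuotientGroup.induction_on with
    | H g =>
      intro h
      have h' : ((x ^ 2 ^ k * g : H) : H ⧸ U) = (g : H ⧸ U) := h
      rw [QuotientGroup.eq] at h'
      have h'' := U.inv_mem h'
      apply hconj g⁻¹
      have : g⁻¹ * x ^ 2 ^ k * g⁻¹⁻¹ = ((x ^ 2 ^ k * g)⁻¹ * g)⁻¹ := by group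
      rw [this]; exact h''

theorem hom_units_odd {H : Type*} [Group H] (φ : H →* ℤˣ) {g : H}
    (hg : (orderOf g).Coprime 2) : φ g = 1 := by
  have h1 : φ g ^ orderOf g = 1 := by rw [← map_pow, pow_orderOf_eq_one, map_one]
  rcases Int.units_eq_one_or (φ g) with h | h
  · exact h
  · rw [h] at h1
    have hodd : Odd (orderOf g) := Nat.coprime_two_right.mp hg
    rw [hodd.neg_one_pow] at h1
    exact absurd h1 (by decide)

theorem pResidual_le_ker {H : Type*} [Group H] (φ : H →* ℤˣ) :
    Cfsg.pResidual 2 H ≤ φ.ker := by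
  unfold Cfsg.pResidual
  rw [Subgroup.closure_le]
  intro g hg
  exact hom_units_odd φ hg

theorem index_ker_eq_two {H : Type*} [Group H] (φ : H →* ℤˣ) {x : H} (hx : φ x = -1) :
    φ.ker.index = 2 := by
  rw [Subgroup.index_ker]
  have : φ.range = ⊤ := by
    rw [eq_top_iff]
    intro u _
    rcases Int.units_eq_one_or u with rfl | rfl
    · exact Subgroup.one_mem _
    · exact ⟨x, hx⟩
  rw [this, Subgroup.card_top]
  simp

/-- Iterated generalized Thompson transfer: if `T ≤ O²(G) ≤ H`, `c ∈ H` has order `2 ^ (k+1)`,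
`|H : T| = 2 ^ (k+1) * odd` and the involution of `⟨c⟩` is not conjugate into `T`, then this
involution is not in `O²(G)`. -/
theorem pow_not_mem_pResidual {G : Type*} [Group G] [Finite G] (T : Subgroup G)
    (hT : T ≤ Cfsg.pResidual 2 G) (m : ℕ) (hm : Odd m) :
    ∀ (k : ℕ) (H : Subgroup G) (c : G), Cfsg.pResidual 2 G ≤ H → c ∈ H →
      c ^ 2 ^ (k + 1) = 1 → T.relIndex H = 2 ^ (k + 1) * m →
      (∀ g : G, g * c ^ 2 ^ k * g⁻¹ ∉ T) → c ^ 2 ^ k ∉ Cfsg.pResidual 2 G := by
  intro k
  induction k with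
  | zero =>
    intro H c hOH hc hord hidx hconj hmem
    have h1 : sgn (T.subgroupOf H) ⟨c, hc⟩ = -1 := by
      apply sgn_eq_neg_one _ _ 0 m _ hm hidx
      · intro g hg
        exact hconj g (by simpa [Subgroup.mem_subgroupOf] using hg)
      · exact Subtype.ext (by simpa using hord)
    have h2 : ∀ g ∈ Cfsg.pResidual 2 G, ∀ hg : g ∈ H, sgn (T.subgroupOf H) ⟨g, hg⟩ = 1 := by
      intro g hg
      unfold Cfsg.pResidual at hg
      induction hg using Subgroup.closure_induction with
      | mem y hy =>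
        intro hyH
        apply hom_units_odd
        rw [Subgroup.orderOf_mk]; exact hy
      | one => intro _; exact map_one _
      | mul a b ha hb iha ihb =>
        intro _
        have haH : a ∈ H := hOH ha
        have hbH : b ∈ H := hOH hb
        have : (⟨a * b, ‹_›⟩ : H) = ⟨a, haH⟩ * ⟨b, hbH⟩ := rfl
        rw [this, map_mul, iha haH, ihb hbH, one_mul]
      | inv a ha iha =>
        intro _
        have haH : a ∈ H := hOH ha
        have : (⟨a⁻¹, ‹_›⟩ : H) = (⟨a, haH⟩ : H)⁻¹ := rfl
        rw [this, map_inv, iha haH, inv_one]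
    rw [pow_zero, pow_one] at hmem
    have := h2 c hmem hc
    rw [h1] at this
    exact absurd this (by decide)
  | succ k ih =>
    intro H c hOH hc hord hidx hconj
    have h1 : sgn (T.subgroupOf H) ⟨c, hc⟩ = -1 := by
      apply sgn_eq_neg_one _ _ (k + 1) m _ hm hidx
      · intro g hg
        exact hconj g (by simpa [Subgroup.mem_subgroupOf] using hg)
      · exact Subtype.ext (by simpa using hord)
    have h2 : ∀ g ∈ Cfsg.pResidual 2 G, ∀ hg : g ∈ H, sgn (T.subgroupOf H) ⟨g, hg⟩ = 1 := by
      intro g hg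
      unfold Cfsg.pResidual at hg
      induction hg using Subgroup.closure_induction with
      | mem y hy =>
        intro hyH
        apply hom_units_odd
        rw [Subgroup.orderOf_mk]; exact hy
      | one => intro _; exact map_one _
      | mul a b ha hb iha ihb =>
        intro _
        have haH : a ∈ H := hOH ha
        have hbH : b ∈ H := hOH hb
        have : (⟨a * b, ‹_›⟩ : H) = ⟨a, haH⟩ * ⟨b, hbH⟩ := rfl
        rw [this, map_mul, iha haH, ihb hbH, one_mul]
      | inv a ha iha =>
        intro _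
        have haH : a ∈ H := hOH ha
        have : (⟨a⁻¹, ‹_›⟩ : H) = (⟨a, haH⟩ : H)⁻¹ := rfl
        rw [this, map_inv, iha haH, inv_one]
    set φ := sgn (T.subgroupOf H) with hφ
    set N : Subgroup G := φ.ker.map H.subtype with hN
    have hNH : N ≤ H := Subgroup.map_subtype_le _
    have hON : Cfsg.pResidual 2 G ≤ N := by
      intro g hg
      exact ⟨⟨g, hOH hg⟩, h2 g hg (hOH hg), rfl⟩
    have hc2 : c ^ 2 ∈ N := by
      refine ⟨⟨c, hc⟩ ^ 2, ?_, rfl⟩
      change φ (⟨c, hc⟩ ^ 2) = 1
      rw [map_pow, h1]; norm_num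
    have hNidx : N.relIndex H = 2 := by
      rw [Subgroup.relIndex, hN, Subgroup.subgroupOf,
        Subgroup.comap_map_eq_self_of_injective H.subtype_injective]
      exact index_ker_eq_two φ h1
    have hTN : T.relIndex N = 2 ^ (k + 1) * m := by
      have h3 := Subgroup.relIndex_mul_relIndex T N H (hT.trans hON) hNH
      rw [hNidx, hidx] at h3
      have : T.relIndex N * 2 = (2 ^ (k + 1) * m) * 2 := by rw [h3]; ring
      exact Nat.eq_of_mul_eq_mul_right (by norm_num) this
    have e : ∀ j : ℕ, (c ^ 2) ^ 2 ^ j = c ^ 2 ^ (j + 1) := by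
      intro j; rw [← pow_mul, pow_succ, mul_comm]
    have := ih N (c ^ 2) hON hc2 (by rw [e]; exact hord) hTN (by rw [e]; exact hconj)
    rwa [e] at this

end Cfsg.Agent.Lib.Helper38
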