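import Mathlib
import Cfsg.Agent.Lib.Helper38.UFDefs
import Cfsg.Agent.Lib.Helper38.ZassD
import Cfsg.Agent.Lib.Helper66.ZassC
import Cfsg.Agent.Lib.Helper75.FrobConstruct
import Cfsg.Agent.Lib.Helper75.FrobTheory

set_option autoImplicit false

/-! Rung L9 of the ladder UF. -/

namespace Cfsg.Agent.Lib.Helper38.UF

/-- a nontrivial group which embeds in a Frobenius complement is a Frobenius complement -/
theorem isFC_of_injective {G A : Type*} [Group G] [Finite G] [Group A] [Finite A] [Nontrivial A]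
    (h : IsFC G) (f : A →* G) (hf : Function.Injective f) : IsFC A := by
  obtain ⟨L, _, _, H, hH, ⟨e⟩⟩ := h
  obtain ⟨K, -, hKn, -, hKbot, -, hfix⟩ := Cfsg.Agent.Lib.Helper75.frobenius_kernel_data H hH
  have hnt : Nontrivial K := (Subgroup.nontrivial_iff_ne_bot K).2 hKbot
  let φ : A →* MulAut K :=
    (MulAut.conjNormal (H := K)).comp (H.subtype.comp (e.toMonoidHom.comp f))
  obtain ⟨L', i1, i2, C, hC, hiso, -⟩ := Cfsg.Agent.Lib.Helper75.exists_frobenius_of_fpf φ (by
    intro a ha k hk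
    have h1 : ((e (f a) : H) : L) * k * ((e (f a) : H) : L)⁻¹ = k := congrArg Subtype.val hk
    have h2 : (e (f a) : H) ≠ 1 := by
      intro h3
      apply ha
      apply hf
      apply e.injective
      rw [h3, map_one, map_one]
    apply Subtype.ext
    exact hfix _ (e (f a)).2 (fun h3 => h2 (Subtype.ext h3)) k k.2 (mul_inv_eq_iff_eq_mul.1 h1))
  exact ⟨L', i1, i2, C, hC, hiso⟩

theorem isFC_factors {A B : Type*} [Group A] [Finite A] [Nontrivial A] [Group B] [Finite B]
    [Nontrivial B] (h : IsFC (A × B)) : IsFC A ∧ IsFC B ∧ (Nat.card A).Coprime (Nat.card B) := by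
  refine ⟨isFC_of_injective h (MonoidHom.inl A B) (fun x y hxy => congrArg Prod.fst hxy),
    isFC_of_injective h (MonoidHom.inr A B) (fun x y hxy => congrArg Prod.snd hxy), ?_⟩
  have hFR := Cfsg.Agent.Lib.Helper66.Zass.hasFreeRep_of_frobenius h
  by_contra hcop
  obtain ⟨r, hr, hrA, hrB⟩ := Nat.Prime.not_coprime_iff_dvd.mp hcop
  have : Fact r.Prime := ⟨hr⟩
  obtain ⟨a, ha⟩ := exists_prime_orderOf_dvd_card' r hrA
  obtain ⟨b, hb⟩ := exists_prime_orderOf_dvd_card' r hrB
  have h1 : orderOf ((a, 1) : A × B) = r := by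
    rw [Prod.orderOf, orderOf_one, ha, Nat.lcm_one_right]
  have h2 : orderOf ((1, b) : A × B) = r := by
    rw [Prod.orderOf, orderOf_one, hb, Nat.lcm_one_left]
  have h3 : Commute ((a, 1) : A × B) (1, b) := by
    show ((a, 1) : A × B) * (1, b) = (1, b) * (a, 1)
    simp
  obtain ⟨k, hk⟩ := Cfsg.Agent.Lib.Helper38.Zass.D2 hFR _ _ h1 h2 h3
  have h4 : b = 1 := by
    have := congrArg Prod.snd hk
    simpa using this.symm
  rw [h4, orderOf_one] at hb
  exact hr.one_lt.ne hb

end Cfsg.Agent.Lib.Helper38.UF
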