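import Mathlib
import Cfsg.Agent.Lib.Helper38.UFDefs
import Cfsg.Agent.Lib.Helper38.UFL2c
import Cfsg.Agent.Lib.Helper38.UFL5a
import Cfsg.Agent.Lib.Helper38.UFL5b
import Cfsg.Agent.Lib.Helper38.UFL6
import Cfsg.Agent.Lib.Helper38.UFL8
import Cfsg.Agent.Lib.Helper38.UFL9
import Cfsg.Agent.Lib.Helper67.UFL1
import Cfsg.Agent.Lib.Helper67.UFL2a
import Cfsg.Agent.Lib.Helper67.UFL2b
import Cfsg.Agent.Lib.Helper67.UFL3
import Cfsg.Agent.Lib.Helper67.UFL4

set_option autoImplicit false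

/-! Fixed-point-free representations of Frobenius complements in characteristic `0`, and direct
products of Frobenius complements: final assembly. -/

namespace Cfsg.Agent.Lib.Helper38.UF

open Cfsg.Agent.Lib.Helper67.UF

/-! ### assembly -/

theorem hasU_rat_of_isFC {G : Type*} [Group G] [Finite G] (hFC : IsFC G) :
    ∃ x : G → ℚ, InU x ∧ x ≠ 0 := by
  obtain ⟨p, d, hp, ρ, hd, hcop, hfree⟩ := exists_free_matrix_rep hFC
  apply hasU_rat_of_padic p
  intro n hn
  have : NeZero (p ^ n) := ⟨pow_ne_zero _ hp.out.ne_zero⟩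
  obtain ⟨σ, hσ⟩ := exists_lift_of_coprime (red p d n hn) (red_surjective p d n hn)
    (isPGroup_ker_red p d n hn) hcop ρ
  exact inU_of_lift hn hd hcop ρ hfree σ hσ

theorem final3357 {G : Type*} [Group G] [Finite G]
    (hFC : ∃ (L : Type) (_ : Group L) (_ : Finite L) (H : Subgroup L), Cfsg.IsFrobeniusComplement H ∧ Nonempty (G ≃* H)) :
    ∃ (n : ℕ) (ρ : G →* GL (Fin n) (AlgebraicClosure ℚ)), 0 < n ∧ Function.Injective ρ ∧
      (∀ W : Submodule (AlgebraicClosure ℚ) (Fin n → AlgebraicClosure ℚ),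
        (∀ g : G, ∀ w ∈ W, ((ρ g : GL (Fin n) (AlgebraicClosure ℚ)) : Matrix (Fin n) (Fin n) (AlgebraicClosure ℚ)).mulVec w ∈ W) → W = ⊥ ∨ W = ⊤) ∧
      ∀ g : G, g ≠ 1 → ∀ v : Fin n → AlgebraicClosure ℚ,
        ((ρ g : GL (Fin n) (AlgebraicClosure ℚ)) : Matrix (Fin n) (Fin n) (AlgebraicClosure ℚ)).mulVec v = v → v = 0 := by
  obtain ⟨x, hx, hx0⟩ := hasU_rat_of_isFC hFC
  have hK : ∃ y : G → AlgebraicClosure ℚ, InU y ∧ y ≠ 0 := by
    refine ⟨fun g => algebraMap ℚ (AlgebraicClosure ℚ) (x g), ?_, ?_⟩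
    · intro c hc g
      rw [← map_sum, hx c hc g, map_zero]
    · intro h
      apply hx0
      funext g
      have := congrFun h g
      exact (map_eq_zero (algebraMap ℚ (AlgebraicClosure ℚ))).mp this
  obtain ⟨V, ρ, hV, hfree⟩ := exists_free_module
    (by exact_mod_cast (Nat.card_pos (α := G)).ne') hK
  obtain ⟨n, σ, hn, hirr, hfree'⟩ := exists_irr_matrix ρ hfree
  refine ⟨n, σ, hn, ?_, hirr, hfree'⟩
  rw [injective_iff_map_eq_one]
  intro g hg
  by_contra hg1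
  have h1 := hfree' g hg1 (fun _ => 1) (by rw [hg]; simp)
  have h2 := congrFun h1 ⟨0, hn⟩
  exact one_ne_zero h2

theorem final4292 {A B : Type*} [Group A] [Finite A] [Nontrivial A] [Group B] [Finite B] [Nontrivial B] :
    (∃ (L : Type) (_ : Group L) (_ : Finite L) (H : Subgroup L), Cfsg.IsFrobeniusComplement H ∧ Nonempty ((A × B) ≃* H)) ↔
    ((∃ (L : Type) (_ : Group L) (_ : Finite L) (H : Subgroup L), Cfsg.IsFrobeniusComplement H ∧ Nonempty (A ≃* H)) ∧
     (∃ (L : Type) (_ : Group L) (_ : Finite L) (H : Subgroup L), Cfsg.IsFrobeniusComplement H ∧ Nonempty (B ≃* H)) ∧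
     (Nat.card A).Coprime (Nat.card B)) := by
  constructor
  · intro h
    exact isFC_factors h
  · rintro ⟨hA, hB, hcop⟩
    have h1 := hasU_prod hcop (hasU_rat_of_isFC hA) (hasU_rat_of_isFC hB)
    obtain ⟨l, hl1, hl2⟩ := Nat.exists_infinite_primes (Nat.card (A × B) + 1)
    have : Fact l.Prime := ⟨hl2⟩
    apply isFC_of_hasU l _ (hasU_zmod_of_rat h1 l)
    rw [Nat.coprime_comm, Nat.Prime.coprime_iff_not_dvd hl2]
    intro hdvd
    have := Nat.le_of_dvd Nat.card_pos hdvd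
    omega

end Cfsg.Agent.Lib.Helper38.UF
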