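import Mathlib
import Cfsg.Agent.Lib.Helper38.Z32Defs
import Cfsg.Agent.Lib.Helper38.Z32R5
import Cfsg.Agent.Lib.Helper38.Z32R7
import Cfsg.Agent.Lib.Helper38.Z32R8
import Cfsg.Agent.Lib.Helper38.Z32R9
import Cfsg.Agent.Lib.Helper24.Z32R1
import Cfsg.Agent.Lib.Helper24.Z32R2
import Cfsg.Agent.S0741
import Cfsg.Agent.S0885
import Cfsg.Agent.S0680
import Cfsg.Agent.S0731
import Cfsg.Agent.Lib.Helper54.Z32R6c

set_option autoImplicit false

/-! Transitive groups of degree `p + 1` and order `(p + 1) p d` with `d < p`: final assembly. -/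

namespace Cfsg.Agent.Lib.Helper38.Z32

open OnePoint

theorem card_onePoint_zmod (p : ℕ) [Fact p.Prime] : Fintype.card (OnePoint (ZMod p)) = p + 1 := by
  have : Fintype.card (OnePoint (ZMod p)) = Fintype.card (Option (ZMod p)) :=
    Fintype.card_congr (Equiv.refl _)
  rw [this, Fintype.card_option, ZMod.card]

theorem zass_case {p d : ℕ} [hp : Fact p.Prime] (hp2 : p ≠ 2)
    (Γ : Subgroup (Equiv.Perm (OnePoint (ZMod p)))) (hΓ : Conc (ZMod p) Γ)
    (hcard : Nat.card Γ = (p + 1) * p * d) (hd : d < p)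
    (hnoreg : ∀ N : Subgroup Γ, N.Normal → MulAction.IsPretransitive N (OnePoint (ZMod p)) →
      ∃ a : OnePoint (ZMod p), MulAction.stabilizer N a ≠ ⊥) :
    (d = p - 1 ∧ Nonempty (Γ ≃* Matrix.ProjGenLinGroup (Fin 2) (ZMod p))) ∨
      (2 * d = p - 1 ∧ Nonempty (Γ ≃* Matrix.ProjectiveSpecialLinearGroup (Fin 2) (ZMod p))) := by
  classical
  have hp1 : 2 < p := lt_of_le_of_ne hp.out.two_le (Ne.symm hp2)
  have hcF : Nat.card (ZMod p) = p := Nat.card_zmod p
  obtain ⟨hstab, hdvd⟩ := hΓ.card_stab d (by rw [hcF]; exact hcard)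
  rw [hcF] at hdvd
  have h2t := hΓ.two_trans
  have hinf0 : (∞ : OnePoint (ZMod p)) ≠ ((0 : ZMod p) : OnePoint (ZMod p)) :=
    OnePoint.infty_ne_coe 0
  have hd0 : d ≠ 0 := by
    rintro rfl
    rw [mul_zero] at hcard
    exact Nat.card_pos.ne' hcard
  have hd1 : d ≠ 1 := by
    rintro rfl
    have hbot : (MulAction.stabilizer Γ (∞ : OnePoint (ZMod p)) ⊓
        MulAction.stabilizer Γ ((0 : ZMod p) : OnePoint (ZMod p)) : Subgroup Γ) = ⊥ :=
      Subgroup.card_eq_one.mp hstab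
    have hsharp : ∀ x : Fin 2 ↪ OnePoint (ZMod p), MulAction.stabilizer Γ x = ⊥ := by
      intro x
      let x0 : Fin 2 ↪ OnePoint (ZMod p) :=
        ⟨![∞, ((0 : ZMod p) : OnePoint (ZMod p))], by
          intro i j hij
          fin_cases i <;> fin_cases j <;> simp_all⟩
      obtain ⟨δ, hδ⟩ := MulAction.exists_smul_eq Γ x0 x
      rw [eq_bot_iff]
      intro g hg
      rw [MulAction.mem_stabilizer_iff] at hg
      have h1 : δ⁻¹ * g * δ ∈ (MulAction.stabilizer Γ (∞ : OnePoint (ZMod p)) ⊓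
        MulAction.stabilizer Γ ((0 : ZMod p) : OnePoint (ZMod p)) : Subgroup Γ) := by
        have key : ∀ i, (δ⁻¹ * g * δ) • x0 i = x0 i := by
          intro i
          have h1 : δ • x0 i = x i := by rw [← hδ]; rfl
          have h2 : g • x i = x i := congrArg (fun f : Fin 2 ↪ OnePoint (ZMod p) => f i) hg
          rw [mul_smul, mul_smul, h1, h2, ← h1, inv_smul_smul]
        rw [Subgroup.mem_inf, MulAction.mem_stabilizer_iff, MulAction.mem_stabilizer_iff]
        exact ⟨key 0, key 1⟩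
      rw [hbot, Subgroup.mem_bot] at h1
      rw [Subgroup.mem_bot]
      have : g = δ * (δ⁻¹ * g * δ) * δ⁻¹ := by group
      rw [this, h1]; group
    obtain ⟨r, j, hr, -, -, hP⟩ := Cfsg.Agent.S0680.result Γ hsharp
      (by rw [card_onePoint_zmod]; omega)
    have hrf : Fact r.Prime := ⟨hr⟩
    obtain ⟨P⟩ : Nonempty (Sylow r Γ) := inferInstance
    obtain ⟨h1, -, -, h4, h5, -⟩ := hP hrf P
    obtain ⟨a, ha⟩ := hnoreg P h1 h4
    exact ha (h5 a)
  have hZ : Cfsg.IsZassenhausGroup Γ (OnePoint (ZMod p)) := by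
    refine ⟨inferInstance, h2t, fun g a b c hab hbc hac ha hb hc =>
      hΓ.eq_one g a b c hab hbc hac ha hb hc, ?_, hnoreg⟩
    have hnt : Nontrivial ↥(MulAction.stabilizer Γ (∞ : OnePoint (ZMod p)) ⊓
        MulAction.stabilizer Γ ((0 : ZMod p) : OnePoint (ZMod p)) : Subgroup Γ) := by
      apply (Finite.one_lt_card_iff_nontrivial).mp
      rw [hstab]; omega
    obtain ⟨g, hg⟩ := exists_ne (1 : ↥(MulAction.stabilizer Γ (∞ : OnePoint (ZMod p)) ⊓
        MulAction.stabilizer Γ ((0 : ZMod p) : OnePoint (ZMod p)) : Subgroup Γ))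
    refine ⟨g.1, fun h => hg (Subtype.ext h), ∞, _, hinf0, ?_, ?_⟩
    · exact MulAction.mem_stabilizer_iff.mp (Subgroup.mem_inf.mp g.2).1
    · exact MulAction.mem_stabilizer_iff.mp (Subgroup.mem_inf.mp g.2).2
  have hbound : p - 1 ≤ 2 * d := by
    rcases Nat.even_or_odd d with hev | hodd
    · have := Cfsg.Agent.S0741.result hZ hinf0 (by rw [hstab]; exact hev)
      rw [hstab, card_onePoint_zmod] at this
      omega
    · have := Cfsg.Agent.S0885.result hZ hinf0 p d (card_onePoint_zmod p) hstab hodd (TT Γ)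
        hΓ.TT_le (by rw [hΓ.TT_card, hcF, card_onePoint_zmod])
        (fun u hu hu1 c hc => hΓ.TT_fix u hu hu1 c hc)
      rcases this with h | ⟨-, ⟨u, v, huv⟩, -⟩
      · exact h
      · exact absurd (hΓ.TT_comm.is_comm.comm u v) huv
  obtain ⟨m, hm⟩ := hdvd
  have hm12 : m = 1 ∨ m = 2 := by
    have hm0 : m ≠ 0 := by
      rintro rfl
      omega
    have : m ≤ 2 := by
      by_contra hcon
      push Not at hcon
      have : d * 3 ≤ d * m := Nat.mul_le_mul_left d hcon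
      omega
    omega
  rcases hm12 with rfl | rfl
  · left
    have hdp : d = p - 1 := by omega
    refine ⟨hdp, ?_⟩
    apply pgl_of_conc _ Γ hΓ
    · intro k hk
      exact hΓ.all_mul (by rw [hcF, hcard, hdp]) k hk
    · intro h
      have : ((2 : ℕ) : ZMod p) = 0 := by exact_mod_cast h
      rw [ZMod.natCast_eq_zero_iff] at this
      exact absurd (Nat.le_of_dvd (by norm_num) this) (by omega)
  · right
    have hdp : 2 * d = p - 1 := by omega
    refine ⟨hdp, ?_⟩
    rcases Cfsg.Agent.S0731.result hZ ∞ (TT Γ) hΓ.TT_le hΓ.TT_normal hΓ.TT_comm hΓ.TT_reg with ⟨h3, hs⟩ | h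
    · exfalso
      have := card_of_sharp3 h3 hs (by rw [Nat.card_eq_fintype_card, card_onePoint_zmod]; omega)
      rw [Nat.card_eq_fintype_card (α := OnePoint (ZMod p)), card_onePoint_zmod, hcard] at this
      have h1 : p + 1 - 1 = p := by omega
      have h2 : p + 1 - 2 = p - 1 := by omega
      rw [h1, h2] at this
      have h3 : 0 < (p + 1) * p := by positivity
      have := Nat.eq_of_mul_eq_mul_left h3 this
      omega
    · obtain ⟨K, _, _, hK, ⟨e⟩⟩ := h
      apply psl_prime_of_card hK _ e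
      rw [hcard, ← hdp]; ring

theorem main_conc {p d : ℕ} [hp : Fact p.Prime] (hp2 : p ≠ 2)
    (Γ : Subgroup (Equiv.Perm (OnePoint (ZMod p)))) (hΓ : Conc (ZMod p) Γ)
    (hcard : Nat.card Γ = (p + 1) * p * d) (hd : d < p) :
    (d = p - 1 ∧ Nonempty (Γ ≃* Matrix.ProjGenLinGroup (Fin 2) (ZMod p))) ∨
      (2 * d = p - 1 ∧ Nonempty (Γ ≃* Matrix.ProjectiveSpecialLinearGroup (Fin 2) (ZMod p))) ∨
      (∃ q : ℕ, q.Prime ∧ p + 1 = 2 ^ q ∧ (d = 1 ∨ d = q) ∧
        ∃ e : OnePoint (ZMod p) ≃ GaloisField 2 q, ∀ g : Γ,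
          (e.symm.trans (((g : Equiv.Perm (OnePoint (ZMod p)))).trans e)) ∈
            Cfsg.semiaffineGroup (GaloisField 2 q)) := by
  classical
  by_cases hreg : ∃ N : Subgroup Γ, N.Normal ∧ MulAction.IsPretransitive N (OnePoint (ZMod p)) ∧
      ∀ a : OnePoint (ZMod p), MulAction.stabilizer N a = ⊥
  · obtain ⟨N, h1, h2, h3⟩ := hreg
    right; right
    have htr : MulAction.IsPretransitive Γ (OnePoint (ZMod p)) := by
      constructor
      intro x y
      obtain ⟨n, hn⟩ := h2.exists_smul_eq x y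
      exact ⟨n.1, hn⟩
    exact Cfsg.Agent.Lib.Helper54.Z32.semiaffine_of_regular_normal hp.out hp2 (card_onePoint_zmod p) Γ hcard hd N h1 h2 h3
  · push Not at hreg
    rcases zass_case hp2 Γ hΓ hcard hd (fun N h1 h2 => hreg N h1 h2) with h | h
    · exact Or.inl h
    · exact Or.inr (Or.inl h)

theorem final {α : Type*} [Fintype α] [DecidableEq α] {p d : ℕ} (hp : p.Prime) (hα : Fintype.card α = p + 1) (G : Subgroup (Equiv.Perm α)) [MulAction.IsPretransitive G α] (hG : Nat.card G = (p + 1) * p * d) (hd : d < p) : (d = p - 1 ∧ Nonempty (G ≃* Matrix.ProjGenLinGroup (Fin 2) (ZMod p))) ∨ (2 * d = p - 1 ∧ Nonempty (G ≃* Matrix.ProjectiveSpecialLinearGroup (Fin 2) (ZMod p))) ∨ (∃ q : ℕ, q.Prime ∧ p + 1 = 2 ^ q ∧ (d = 1 ∨ d = q) ∧ ∃ e : α ≃ GaloisField 2 q, ∀ g : G, (e.symm.trans (((g : Equiv.Perm α)).trans e)) ∈ Cfsg.semiaffineGroup (GaloisField 2 q)) := by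
  have hpf : Fact p.Prime := ⟨hp⟩
  by_cases hp2 : p = 2
  · subst hp2
    have hd0 : d ≠ 0 := by
      rintro rfl
      rw [mul_zero] at hG
      exact Nat.card_pos.ne' hG
    have hd1 : d = 1 := by omega
    subst hd1
    left
    exact ⟨rfl, pgl_two hα G (by rw [hG])⟩
  · obtain ⟨e, hΓ⟩ := Cfsg.Agent.Lib.Helper24.Z32.exists_conc hα G hG hd
    let E : G ≃* G.map e.permCongrHom.toMonoidHom :=
      G.equivMapOfInjective _ e.permCongrHom.injective
    have hcard : Nat.card (G.map e.permCongrHom.toMonoidHom) = (p + 1) * p * d := by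
      rw [← Nat.card_congr E.toEquiv, hG]
    rcases main_conc hp2 _ hΓ hcard hd with ⟨h1, ⟨f⟩⟩ | ⟨h1, ⟨f⟩⟩ | ⟨q, hq, h1, h2, e', he'⟩
    · exact Or.inl ⟨h1, ⟨E.trans f⟩⟩
    · exact Or.inr (Or.inl ⟨h1, ⟨E.trans f⟩⟩)
    · refine Or.inr (Or.inr ⟨q, hq, h1, h2, e.trans e', fun g => ?_⟩)
      have := he' (E g)
      convert this using 1
      ext x
      rfl

end Cfsg.Agent.Lib.Helper38.Z32
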