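import Mathlib
import Cfsg.Agent.Lib.Helper38.Z91Defs
import Cfsg.Agent.Lib.Helper38.Z91X
import Cfsg.Agent.Lib.Helper38.Z91W2
import Cfsg.Agent.Lib.Helper69.Z91U2
import Cfsg.Agent.Lib.Helper69.Z91V
import Cfsg.Agent.Lib.Helper77.Frobenius
import Cfsg.Agent.Lib.Helper61.ZassMain

set_option autoImplicit false

/-! Assembly: a finite group with a free representation has a unique normal Z-subgroup with
quotient in the list `1, V₄, A₄, S₄, A₅, S₅`. -/

namespace Cfsg.Agent.Lib.Helper38.Z91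

open Cfsg.Agent.Lib.Helper61.Zass Cfsg.Agent.Lib.Helper38.Zass

/-- the soluble part of the existence statement -/
theorem exists_inList_solvable {G : Type*} [Group G] [Finite G] (hFR : HasFreeRep G)
    (hsol : Group.IsSolvable G) :
    ∃ N : Subgroup G, N.Normal ∧ IsZGroup N ∧ (N = ⊤ ∨
        (∃ f : G →* DihedralGroup 2, Function.Surjective f ∧ f.ker = N) ∨
        (∃ f : G →* alternatingGroup (Fin 4), Function.Surjective f ∧ f.ker = N) ∨
        (∃ f : G →* Equiv.Perm (Fin 4), Function.Surjective f ∧ f.ker = N)) := by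
  have : Fact (Nat.Prime 2) := ⟨Nat.prime_two⟩
  by_cases hcyc : ∀ P : Sylow 2 G, IsCyclic P
  · refine ⟨⊤, inferInstance, ?_, Or.inl rfl⟩
    have hG : IsZGroup G := by
      constructor
      intro p hp P
      have : Fact p.Prime := ⟨hp⟩
      by_cases hp2 : p = 2
      · subst hp2; exact hcyc P
      · exact isCyclic_sylow_of_odd hFR p hp2 P
    exact IsZGroup.of_injective (f := (⊤ : Subgroup G).subtype) (Subgroup.subtype_injective _)
  · push Not at hcyc
    obtain ⟨P, hP⟩ := hcyc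
    by_cases hK : Cfsg.Agent.Lib.Helper77.NPC 2 G
    · obtain ⟨N, h1, h2, h3⟩ := Cfsg.Agent.Lib.Helper69.Z91.exists_V4 hFR P hP hK
      exact ⟨N, h1, h2, Or.inr (Or.inl h3)⟩
    · obtain ⟨N, h1, h2, h3 | h3⟩ := exists_A4_S4 hFR hsol hK
      · exact ⟨N, h1, h2, Or.inr (Or.inr (Or.inl h3))⟩
      · exact ⟨N, h1, h2, Or.inr (Or.inr (Or.inr h3))⟩

theorem exists_inList {G : Type*} [Group G] [Finite G] (hFR : HasFreeRep G) :
    ∃ N : Subgroup G, N.Normal ∧ IsZGroup N ∧ InList N := by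
  by_cases hsol : Group.IsSolvable G
  · obtain ⟨N, h1, h2, h3 | h3 | h3 | h3⟩ := exists_inList_solvable hFR hsol
    · exact ⟨N, h1, h2, Or.inl h3⟩
    · exact ⟨N, h1, h2, Or.inr (Or.inl h3)⟩
    · exact ⟨N, h1, h2, Or.inr (Or.inr (Or.inl h3))⟩
    · exact ⟨N, h1, h2, Or.inr (Or.inr (Or.inr (Or.inl h3)))⟩
  · obtain ⟨N, h1, h2, h3 | h3⟩ := exists_A5_S5 hFR (structure_of_nonsolvable hFR hsol)
    · exact ⟨N, h1, h2, Or.inr (Or.inr (Or.inr (Or.inr (Or.inl h3))))⟩
    · exact ⟨N, h1, h2, Or.inr (Or.inr (Or.inr (Or.inr (Or.inr h3))))⟩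

theorem existsUnique_inList {G : Type*} [Group G] [Finite G] (hFR : HasFreeRep G) :
    ∃! N : Subgroup G, N.Normal ∧ (∀ (p : ℕ) [Fact p.Prime] (P : Sylow p N), IsCyclic P) ∧
      (N = ⊤ ∨
        (∃ f : G →* DihedralGroup 2, Function.Surjective f ∧ f.ker = N) ∨
        (∃ f : G →* alternatingGroup (Fin 4), Function.Surjective f ∧ f.ker = N) ∨
        (∃ f : G →* Equiv.Perm (Fin 4), Function.Surjective f ∧ f.ker = N) ∨
        (∃ f : G →* alternatingGroup (Fin 5), Function.Surjective f ∧ f.ker = N) ∨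
        (∃ f : G →* Equiv.Perm (Fin 5), Function.Surjective f ∧ f.ker = N)) := by
  obtain ⟨N, h1, h2, h3⟩ := exists_inList hFR
  refine ⟨N, ⟨h1, fun p _ P => inferInstance, h3⟩, ?_⟩
  rintro N' ⟨h1', h2', h3'⟩
  have hz' : IsZGroup N' := ⟨fun p hp P => by
    have : Fact p.Prime := ⟨hp⟩
    exact h2' p P⟩
  exact Cfsg.Agent.Lib.Helper69.Z91.unique_of_inList (two_gen_sylow hFR) N' N h1' h1 hz' h2 h3' h3

end Cfsg.Agent.Lib.Helper38.Z91
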