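import Mathlib
import Cfsg.Agent.Lib.Helper38.Z58A
import Cfsg.Agent.Lib.Helper38.Z58B
import Cfsg.Agent.Lib.Helper38.Z91Main
import Cfsg.Agent.S3379

set_option autoImplicit false
set_option linter.unusedVariables false

/-! Structure of soluble groups with a free representation. -/

namespace Cfsg.Agent.Lib.Helper38.Z58

open Subgroup Cfsg.Agent.Lib.Helper61.Zass

theorem exists_embedding_V4 : ∃ ι : DihedralGroup 2 →* Equiv.Perm (Fin 4), Function.Injective ι := by
  have hc : Fintype.card (DihedralGroup 2) = 4 := by rw [DihedralGroup.card]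
  let e : DihedralGroup 2 ≃ Fin 4 := Fintype.equivFinOfCardEq hc
  refine ⟨e.permCongrHom.toMonoidHom.comp
    (MulAction.toPermHom (DihedralGroup 2) (DihedralGroup 2)), ?_⟩
  apply e.permCongrHom.injective.comp
  exact MulAction.toPerm_injective

theorem ker_comp_of_injective {G X Y : Type*} [Group G] [Group X] [Group Y] (f : G →* X)
    (ι : X →* Y) (hι : Function.Injective ι) : (ι.comp f).ker = f.ker := by
  ext g
  rw [MonoidHom.mem_ker, MonoidHom.mem_ker, MonoidHom.comp_apply]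
  exact (injective_iff_map_eq_one' ι).mp hι (f g)

theorem zgroup_presentation {G : Type*} [Group G] [Finite G] (hFR : HasFreeRep G)
    (hZ : IsZGroup G) :
    ∃ n m r : ℕ, 0 < n ∧ 0 < m ∧ Nat.Coprime (r - 1) m ∧ Nat.Coprime n m ∧ 1 ≤ r ∧
        r ^ (n / ∏ p ∈ n.primeFactors, p) % m = 1 % m ∧
        Nonempty (G ≃* PresentedGroup
          ({FreeGroup.of (0 : Fin 2) ^ n, FreeGroup.of (1 : Fin 2) ^ m,
            (FreeGroup.of (0 : Fin 2))⁻¹ * FreeGroup.of 1 * FreeGroup.of 0 *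
              (FreeGroup.of (1 : Fin 2) ^ r)⁻¹} : Set (FreeGroup (Fin 2)))) := by
  obtain ⟨x, y, n, m, r, hgen, hx, hy, hrel, hc1, hc2, hr, hrn⟩ :=
    Cfsg.Agent.S3379.result (G := G) (fun p _ P => inferInstance)
  have hn : 0 < n := hx ▸ orderOf_pos x
  have hm : 0 < m := hy ▸ orderOf_pos y
  refine ⟨n, m, r, hn, hm, hc1, hc2, hr, ?_, presented_iso x y n m r hgen hx hy hrel hc2⟩
  have hconj := conj_pow_iter x y r hrel
  have key : ((r : ZMod m)) ^ (n / ∏ p ∈ n.primeFactors, p) = 1 := by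
    apply pow_div_rad_eq_one _ n hn
    · have : ((r ^ n : ℕ) : ZMod m) = ((1 : ℕ) : ZMod m) :=
        (ZMod.natCast_eq_natCast_iff _ _ _).mpr hrn
      simpa using this
    · intro q hq hqn
      have hnq0 : n / q ≠ 0 := by
        have := Nat.div_pos (Nat.le_of_dvd hn hqn) hq.pos
        omega
      have ha : orderOf (x ^ (n / q)) = q := by
        rw [orderOf_pow_of_dvd hnq0 (by rw [hx]; exact Nat.div_dvd_of_dvd hqn), hx]
        exact Nat.div_div_self hqn hn.ne'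
      have hcomm := D4 hFR hq (x ^ (n / q)) y ha (r ^ (n / q)) (hconj (n / q))
      have h1 : y ^ (r ^ (n / q)) = y ^ 1 := by
        rw [← hconj (n / q), pow_one, mul_assoc, ← hcomm.eq, inv_mul_cancel_left]
      rw [pow_eq_pow_iff_modEq, hy] at h1
      have : ((r ^ (n / q) : ℕ) : ZMod m) = ((1 : ℕ) : ZMod m) :=
        (ZMod.natCast_eq_natCast_iff _ _ _).mpr h1
      simpa using this
  have h2 : ((r ^ (n / ∏ p ∈ n.primeFactors, p) : ℕ) : ZMod m) = ((1 : ℕ) : ZMod m) := by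
    simpa using key
  exact (ZMod.natCast_eq_natCast_iff _ _ _).mp h2

theorem solvable_structure {G : Type*} [Group G] [Finite G] (hFR : HasFreeRep G)
    (hsol : Group.IsSolvable G) :
    ∃ G₀ : Subgroup G, G₀.Normal ∧
      (∃ f : G →* Equiv.Perm (Fin 4), f.ker = G₀) ∧
      (∀ (p : ℕ) [Fact p.Prime] (P : Sylow p G₀), IsCyclic P) ∧
      ∃ n m r : ℕ, 0 < n ∧ 0 < m ∧ Nat.Coprime (r - 1) m ∧ Nat.Coprime n m ∧ 1 ≤ r ∧
        r ^ (n / ∏ p ∈ n.primeFactors, p) % m = 1 % m ∧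
        Nonempty (G₀ ≃* PresentedGroup
          ({FreeGroup.of (0 : Fin 2) ^ n, FreeGroup.of (1 : Fin 2) ^ m,
            (FreeGroup.of (0 : Fin 2))⁻¹ * FreeGroup.of 1 * FreeGroup.of 0 *
              (FreeGroup.of (1 : Fin 2) ^ r)⁻¹} : Set (FreeGroup (Fin 2)))) := by
  obtain ⟨N, h1, h2, h3⟩ := Cfsg.Agent.Lib.Helper38.Z91.exists_inList_solvable hFR hsol
  refine ⟨N, h1, ?_, fun p _ P => inferInstance, zgroup_presentation (hFR.subgroup N) h2⟩
  rcases h3 with rfl | ⟨f, -, hf⟩ | ⟨f, -, hf⟩ | ⟨f, -, hf⟩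
  · exact ⟨1, MonoidHom.ker_one⟩
  · obtain ⟨ι, hι⟩ := exists_embedding_V4
    exact ⟨ι.comp f, by rw [ker_comp_of_injective f ι hι, hf]⟩
  · exact ⟨(alternatingGroup (Fin 4)).subtype.comp f,
      by rw [ker_comp_of_injective f _ (Subgroup.subtype_injective _), hf]⟩
  · exact ⟨f, hf⟩

end Cfsg.Agent.Lib.Helper38.Z58
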